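import Mathlib

/-!
# Two groups with generators satisfying the same relations

If a finite simple group `M` is generated by `m i`, the group `G ≠ 1` is generated by `g i`, and the
subgroup of `G × M` generated by the pairs is finite of order at most the order of `M`, then `G` is
isomorphic to `M`.
-/

set_option autoImplicit false

namespace Cfsg.Agent.McLType.Glue

theorem nonempty_equiv {G M ι : Type*} [Group G] [Group M] [Finite M] [IsSimpleGroup M]
    [Nontrivial G] (g : ι → G) (m : ι → M)
    (hg : Subgroup.closure (Set.range g) = ⊤) (hm : Subgroup.closure (Set.range m) = ⊤)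
    (hfin : Finite (Subgroup.closure (Set.range fun i => (g i, m i))))
    (hcard : Nat.card (Subgroup.closure (Set.range fun i => (g i, m i))) ≤ Nat.card M) :
    Nonempty (G ≃* M) := by
  set Γ : Subgroup (G × M) := Subgroup.closure (Set.range fun i => (g i, m i)) with hΓ
  let p : Γ →* G := (MonoidHom.fst G M).comp Γ.subtype
  let q : Γ →* M := (MonoidHom.snd G M).comp Γ.subtype
  have hp : Function.Surjective p := by
    rw [← MonoidHom.range_eq_top, eq_top_iff, ← hg, Subgroup.closure_le]
    rintro _ ⟨i, rfl⟩
    exact ⟨⟨(g i, m i), Subgroup.subset_closure ⟨i, rfl⟩⟩, rfl⟩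
  have hq : Function.Surjective q := by
    rw [← MonoidHom.range_eq_top, eq_top_iff, ← hm, Subgroup.closure_le]
    rintro _ ⟨i, rfl⟩
    exact ⟨⟨(g i, m i), Subgroup.subset_closure ⟨i, rfl⟩⟩, rfl⟩
  have hqb : Function.Bijective q := by
    refine (Nat.bijective_iff_surjective_and_card q).2 ⟨hq, le_antisymm hcard ?_⟩
    exact Nat.card_le_card_of_surjective q hq
  let e : Γ ≃* M := MulEquiv.ofBijective q hqb
  let r : M →* G := p.comp e.symm.toMonoidHom
  have hr : Function.Surjective r := hp.comp e.symm.surjective
  have hk : r.ker = ⊥ := by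
    rcases r.normal_ker.eq_bot_or_eq_top with h | h
    · exact h
    · exfalso
      obtain ⟨x, hx⟩ := exists_ne (1 : G)
      obtain ⟨y, rfl⟩ := hr x
      have : y ∈ r.ker := h ▸ Subgroup.mem_top y
      exact hx this
  exact ⟨(MulEquiv.ofBijective r ⟨(MonoidHom.ker_eq_bot_iff r).1 hk, hr⟩).symm⟩

end Cfsg.Agent.McLType.Glue
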