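import Cfsg.Agent.McLType.UpCChk0
import Cfsg.Agent.McLType.UpCChk1
import Cfsg.Agent.McLType.UpCChk2
import Cfsg.Agent.McLType.UpCChk3
import Cfsg.Agent.McLType.UpCChk4
import Cfsg.Agent.McLType.UpCChk5
import Cfsg.Agent.McLType.UpCChk6
import Cfsg.Agent.McLType.UpCChk7
import Cfsg.Agent.McLType.UpCChk8
import Cfsg.Agent.McLType.UpCChk9
import Cfsg.Agent.McLType.UpCChk10
import Cfsg.Agent.McLType.UpCChk11
import Cfsg.Agent.McLType.UpCChk12
import Cfsg.Agent.McLType.UpCChk13
import Cfsg.Agent.McLType.UpCChk14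
import Cfsg.Agent.McLType.UpCChk15
import Cfsg.Agent.McLType.UpCChk16
import Cfsg.Agent.McLType.UpCChk17
import Cfsg.Agent.McLType.UpCChk18
import Cfsg.Agent.McLType.UpCChk19
import Cfsg.Agent.McLType.UpCChk20
import Cfsg.Agent.McLType.UpCChk21
import Cfsg.Agent.McLType.UpCChk22
import Cfsg.Agent.McLType.UpCChk23

set_option autoImplicit false
set_option maxRecDepth 100000

namespace Cfsg.Agent.McLType.UpCAll

open Cfsg.Agent.SporadicRecognition.CosetCert Cfsg.Agent.McLType.UpCData

theorem part : Part C 0 C.N 22275 := (((((((((((((((((((((((Cfsg.Agent.McLType.UpCChk0.all).append C Cfsg.Agent.McLType.UpCChk1.all).append C Cfsg.Agent.McLType.UpCChk2.all).append C Cfsg.Agent.McLType.UpCChk3.all).append C Cfsg.Agent.McLType.UpCChk4.all).append C Cfsg.Agent.McLType.UpCChk5.all).append C Cfsg.Agent.McLType.UpCChk6.all).append C Cfsg.Agent.McLType.UpCChk7.all).append C Cfsg.Agent.McLType.UpCChk8.all).append C Cfsg.Agent.McLType.UpCChk9.all).append C Cfsg.Agent.McLType.UpCChk10.all).append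 C Cfsg.Agent.McLType.UpCChk11.all).append C Cfsg.Agent.McLType.UpCChk12.all).append C Cfsg.Agent.McLType.UpCChk13.all).append C Cfsg.Agent.McLType.UpCChk14.all).append C Cfsg.Agent.McLType.UpCChk15.all).append C Cfsg.Agent.McLType.UpCChk16.all).append C Cfsg.Agent.McLType.UpCChk17.all).append C Cfsg.Agent.McLType.UpCChk18.all).append C Cfsg.Agent.McLType.UpCChk19.all).append C Cfsg.Agent.McLType.UpCChk20.all).append C Cfsg.Agent.McLType.UpCChk21.all).append C Cfsg.Agent.McLType.UpCChk22.all).append C Cfsg.Agent.McLType.UpCChk23.all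

end Cfsg.Agent.McLType.UpCAll
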