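import Cfsg.Agent.SporadicRecognition.CosetChain
import Cfsg.Agent.McLType.UpAAll
import Cfsg.Agent.McLType.UpBAll
import Cfsg.Agent.McLType.UpCAll
import Cfsg.Agent.McLType.Model

/-!
# Order bound for the presented McLaughlin group

Seven involutions `a b c x y w g` of an arbitrary group which satisfy the 39 relators `McLRels` generate a finite
group of order at most `898128000 = 168 * 240 * 22275`, by three certified coset enumerations:
`⟨a,x,b,y⟩` over `1` (168), `⟨a,x,b,y,g,c⟩` over `⟨a,x,b,y⟩` (240), everything over `⟨a,x,b,y,g,c⟩` (22275).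
-/

set_option autoImplicit false
set_option maxRecDepth 100000

namespace Cfsg.Agent.McLType.Upper

open Cfsg.Agent.SporadicRecognition.CosetCert Cfsg.Agent.SporadicRecognition.CosetCertHyp
  Cfsg.Agent.SporadicRecognition.CosetChain

/-- `n` copies of `w` -/
def pw {α : Type} (w : List α) (n : ℕ) : List α := (List.replicate n w).flatten

/-- The relators in the letters `a b c x y w g = 0 1 2 3 4 5 6`. -/
def R : List (List (Fin 7)) := [
  -- squares
  [0, 0], [1, 1], [2, 2], [3, 3], [4, 4], [5, 5], [6, 6],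
  -- in `a b x y`
  pw [0, 1] 4, pw [0, 3] 3, pw [1, 3] 2, pw [0, 4] 2, pw [1, 4] 3, pw [3, 4] 4,
  pw [0, 1, 3] 3, pw [0, 1, 4] 3, pw [0, 3, 4] 3,
  -- in `a b c x y w`
  pw [1, 2] 4, pw [2, 5] 3, pw [1, 5] 2, pw [2, 4] 2, pw [4, 5] 4,
  pw [2, 1, 4] 3, pw [1, 5, 4] 3, [1, 5, 2, 1, 5, 2, 1, 5, 0, 2, 0], [5, 4, 2, 5, 4, 2, 5, 4, 0, 2, 0],
  [3, 2, 3, 0, 2, 0], pw [3, 5] 2 ++ pw [0, 2] 2, [5, 0, 5, 2, 0, 2],
  pw [0, 2] 2 ++ [1] ++ pw [0, 2] 2 ++ [1], pw [0, 2] 2 ++ [4] ++ pw [0, 2] 2 ++ [4], pw [0, 2] 4,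
  -- with `g`
  pw [1, 6] 3, pw [1, 6, 4] 2, pw [6, 2] 2,
  [6, 0, 6, 4, 1, 0, 1, 4], [6, 1, 2, 1, 6, 1, 2, 1, 2], [6, 0, 6, 1, 0, 1, 0],
  pw [6, 3] 5, pw [6, 5] 5, pw [3, 4, 1, 6] 5, pw [5, 4, 6] 5, pw [0, 3, 6, 3, 6] 5,
  pw [2, 5, 6, 5, 6, 1] 5,
  -- three more
  pw [1, 2, 3, 6] 5, pw [1, 5, 6, 4, 5, 6] 3, pw [3, 4, 6, 4, 3, 6] 3]

/-- The same relators in the order `a x b y g c w = 0 1 2 3 4 5 6` of the certificates. -/
def toCert : Fin 7 → ℕ := fun k => [0, 2, 5, 1, 3, 6, 4].getD k 0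

/-- inverse of `toCert` -/
def ofCert : ℕ → Fin 7 := fun k => [0, 3, 1, 4, 6, 2, 5].getD k 0

def rels : List (List ℕ) := R.map fun r => r.map toCert

def subA : List (List ℕ) := []
def subB : List (List ℕ) := [[0], [1], [2], [3]]
def subC : List (List ℕ) := [[0], [1], [2], [3], [4], [5]]

theorem ofCert_toCert (k : Fin 7) : ofCert (toCert k) = k := by revert k; decide

theorem checkA : checkHyp UpAData.C (restr UpAData.C.k rels) (restr UpAData.C.k subA) = true := by decide +kernel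
theorem checkB : checkHyp UpBData.C (restr UpBData.C.k rels) (restr UpBData.C.k subB) = true := by decide +kernel
theorem checkC : checkHyp UpCData.C (restr UpCData.C.k rels) (restr UpCData.C.k subC) = true := by decide +kernel

section bound

universe u

variable {H : Type u} [Group H] (h : Fin 7 → H)

/-- the letters of the certificates -/
def f : ℕ → H := fun k => h (ofCert k)

theorem ev_f (r : List (Fin 7)) : ev (f h) (r.map toCert) = (r.map h).prod := by
  unfold ev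
  rw [List.map_map]
  congr 2
  funext k
  show h (ofCert (toCert k)) = h k
  rw [ofCert_toCert]

variable {h}

theorem rel_f (hR : ∀ r ∈ R, (r.map h).prod = 1) : ∀ r ∈ rels, ev (f h) r = 1 := by
  intro r hr
  obtain ⟨s, hs, rfl⟩ := List.mem_map.1 hr
  rw [ev_f]
  exact hR s hs

theorem sq (hR : ∀ r ∈ R, (r.map h).prod = 1) (k : Fin 7) : h k * h k = 1 := by
  have h1 : [k, k] ∈ R := by revert k; decide
  have h2 := hR _ h1
  simpa using h2

theorem invA (hR : ∀ r ∈ R, (r.map h).prod = 1) :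
    ∀ x, x < UpAData.C.k → UpAData.C.inv x < UpAData.C.k ∧ f h x * f h (UpAData.C.inv x) = 1 :=
  fun _ hx => ⟨hx, sq hR _⟩

theorem invB (hR : ∀ r ∈ R, (r.map h).prod = 1) :
    ∀ x, x < UpBData.C.k → UpBData.C.inv x < UpBData.C.k ∧ f h x * f h (UpBData.C.inv x) = 1 :=
  fun _ hx => ⟨hx, sq hR _⟩

theorem invC (hR : ∀ r ∈ R, (r.map h).prod = 1) :
    ∀ x, x < UpCData.C.k → UpCData.C.inv x < UpCData.C.k ∧ f h x * f h (UpCData.C.inv x) = 1 :=
  fun _ hx => ⟨hx, sq hR _⟩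

/-- `|⟨a,x,b,y⟩| ≤ 168` -/
theorem boundA (hR : ∀ r ∈ R, (r.map h).prod = 1) :
    Finite (Subgroup.closure (f h '' {x | x < 4})) ∧ Nat.card (Subgroup.closure (f h '' {x | x < 4})) ≤ 168 := by
  have h1 := card_step UpAData.C (f h) rels subA ⊥ (invA hR) (fun r hr _ => rel_f hR r hr)
    (fun s hs => absurd hs (by simp [subA])) checkA UpAAll.part inferInstance
  rw [Subgroup.card_bot, mul_one] at h1
  exact h1

/-- `|⟨a,x,b,y,g,c⟩| ≤ 40320` -/
theorem boundB (hR : ∀ r ∈ R, (r.map h).prod = 1) :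
    Finite (Subgroup.closure (f h '' {x | x < 6})) ∧ Nat.card (Subgroup.closure (f h '' {x | x < 6})) ≤ 40320 := by
  obtain ⟨h1, h2⟩ := boundA hR
  obtain ⟨h3, h4⟩ := card_step UpBData.C (f h) rels subB (Subgroup.closure (f h '' {x | x < 4})) (invB hR)
    (fun r hr _ => rel_f hR r hr) (fun s hs _ => sub_letters (f h) 4 subB (by decide) s hs) checkB UpBAll.part h1
  exact ⟨h3, h4.trans (by omega)⟩

/-- The whole group has order at most `898128000`. -/
theorem boundC (hR : ∀ r ∈ R, (r.map h).prod = 1) :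
    Finite (Subgroup.closure (f h '' {x | x < 7})) ∧
      Nat.card (Subgroup.closure (f h '' {x | x < 7})) ≤ 898128000 := by
  obtain ⟨h1, h2⟩ := boundB hR
  obtain ⟨h3, h4⟩ := card_step UpCData.C (f h) rels subC (Subgroup.closure (f h '' {x | x < 6})) (invC hR)
    (fun r hr _ => rel_f hR r hr) (fun s hs _ => sub_letters (f h) 6 subC (by decide) s hs) checkC UpCAll.part h1
  exact ⟨h3, h4.trans (by omega)⟩

omit [Group H] in
theorem image_f : f h '' {x | x < 7} = Set.range h := by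
  ext z
  constructor
  · rintro ⟨k, -, rfl⟩
    exact ⟨ofCert k, rfl⟩
  · rintro ⟨k, rfl⟩
    refine ⟨toCert k, ?_, ?_⟩
    · show toCert k < 7
      revert k; decide
    · show h (ofCert (toCert k)) = h k
      rw [ofCert_toCert]

/-- **The bound.** -/
theorem bound (hR : ∀ r ∈ R, (r.map h).prod = 1) (hgen : Subgroup.closure (Set.range h) = ⊤) :
    Finite H ∧ Nat.card H ≤ 898128000 := by
  obtain ⟨h1, h2⟩ := boundC hR
  rw [image_f, hgen] at h1 h2
  rw [Subgroup.card_top] at h2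
  exact ⟨Finite.of_equiv _ Subgroup.topEquiv.toEquiv, h2⟩

end bound

theorem R_idCheck : R.all Model.idCheck = true := by decide +kernel

universe u

/-- A nontrivial group generated by seven elements satisfying the relators `R` is isomorphic to `McL`. -/
theorem isoMcL {G : Type u} [Group G] [Nontrivial G] (g : Fin 7 → G) (hg : ∀ r ∈ R, (r.map g).prod = 1)
    (hgen : Subgroup.closure (Set.range g) = ⊤) : Spor.IsoMcL G :=
  Model.isoMcL_of_bound R R_idCheck (fun _ _ _ hR hH => bound hR hH) g hg hgen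

/-- The relators, for named elements. -/
structure McLRels {G : Type u} [Group G] (a b c x y w g : G) : Prop where
  aa : a * a = 1
  bb : b * b = 1
  cc : c * c = 1
  xx : x * x = 1
  yy : y * y = 1
  ww : w * w = 1
  gg : g * g = 1
  ab : (a * b) ^ 4 = 1
  ax : (a * x) ^ 3 = 1
  bx : (b * x) ^ 2 = 1
  ay : (a * y) ^ 2 = 1
  by' : (b * y) ^ 3 = 1
  xy : (x * y) ^ 4 = 1
  abx : (a * b * x) ^ 3 = 1
  aby : (a * b * y) ^ 3 = 1
  axy : (a * x * y) ^ 3 = 1
  bc : (b * c) ^ 4 = 1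
  cw : (c * w) ^ 3 = 1
  bw : (b * w) ^ 2 = 1
  cy : (c * y) ^ 2 = 1
  yw : (y * w) ^ 4 = 1
  cby : (c * b * y) ^ 3 = 1
  bwy : (b * w * y) ^ 3 = 1
  cbw : (c * b * w) ^ 3 * (a * c) ^ 2 = 1
  cwy : (c * w * y) ^ 3 * (a * c) ^ 2 = 1
  cx : (c * x) ^ 2 * (a * c) ^ 2 = 1
  xw : (x * w) ^ 2 * (a * c) ^ 2 = 1
  wa : (w * a) ^ 2 * (a * c) ^ 2 = 1
  zb : (a * c) ^ 2 * b * (a * c) ^ 2 * b = 1
  zy : (a * c) ^ 2 * y * (a * c) ^ 2 * y = 1
  zz : (a * c) ^ 4 = 1
  bg : (b * g) ^ 3 = 1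
  bgy : (b * g * y) ^ 2 = 1
  gc : (g * c) ^ 2 = 1
  g1 : g * a * g * y * b * a * b * y = 1
  g2 : g * b * c * b * g * b * c * b * c = 1
  g3 : g * a * g * b * a * b * a = 1
  gx : (g * x) ^ 5 = 1
  gw : (g * w) ^ 5 = 1
  xybg : (x * y * b * g) ^ 5 = 1
  wyg : (w * y * g) ^ 5 = 1
  axgxg : (a * x * g * x * g) ^ 5 = 1
  cwgwgb : (c * w * g * w * g * b) ^ 5 = 1
  bcxg : (b * c * x * g) ^ 5 = 1
  bwgywg : (b * w * g * y * w * g) ^ 3 = 1
  xygyxg : (x * y * g * y * x * g) ^ 3 = 1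

theorem prod_pw {G : Type u} [Group G] (h : Fin 7 → G) (w : List (Fin 7)) (n : ℕ) :
    ((pw w n).map h).prod = ((w.map h).prod) ^ n := by
  unfold pw
  induction n with
  | zero => simp
  | succ n ih => rw [List.replicate_succ, List.flatten_cons, List.map_append, List.prod_append, ih, pow_succ']

theorem rels_of {G : Type u} [Group G] {a b c x y w g : G} (hr : McLRels a b c x y w g) :
    ∀ r ∈ R, (r.map ![a, b, c, x, y, w, g]).prod = 1 := by
  have e0 : (![a, b, c, x, y, w, g] : Fin 7 → G) 0 = a := rfl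
  have e1 : (![a, b, c, x, y, w, g] : Fin 7 → G) 1 = b := rfl
  have e2 : (![a, b, c, x, y, w, g] : Fin 7 → G) 2 = c := rfl
  have e3 : (![a, b, c, x, y, w, g] : Fin 7 → G) 3 = x := rfl
  have e4 : (![a, b, c, x, y, w, g] : Fin 7 → G) 4 = y := rfl
  have e5 : (![a, b, c, x, y, w, g] : Fin 7 → G) 5 = w := rfl
  have e6 : (![a, b, c, x, y, w, g] : Fin 7 → G) 6 = g := rfl
  have hc : ∀ z, c * (c * z) = z := fun z => by rw [← mul_assoc, hr.cc, one_mul]
  have ha : ∀ z, a * (a * z) = z := fun z => by rw [← mul_assoc, hr.aa, one_mul]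
  generalize (![a, b, c, x, y, w, g] : Fin 7 → G) = h at e0 e1 e2 e3 e4 e5 e6
  intro r hr'
  simp only [R, List.mem_cons, List.not_mem_nil, or_false] at hr'
  rcases hr' with rfl | rfl | rfl | rfl | rfl | rfl | rfl | rfl | rfl | rfl | rfl | rfl | rfl | rfl | rfl | rfl | rfl |
    rfl | rfl | rfl | rfl | rfl | rfl | rfl | rfl | rfl | rfl | rfl | rfl | rfl | rfl | rfl | rfl | rfl | rfl | rfl |
    rfl | rfl | rfl | rfl | rfl | rfl | rfl | rfl | rfl | rfl
  all_goals
    simp only [List.map_append, List.prod_append, prod_pw, List.map_cons, List.map_nil, List.prod_cons,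
      List.prod_nil, mul_one, e0, e1, e2, e3, e4, e5, e6, ← mul_assoc]
  · exact hr.aa
  · exact hr.bb
  · exact hr.cc
  · exact hr.xx
  · exact hr.yy
  · exact hr.ww
  · exact hr.gg
  · exact hr.ab
  · exact hr.ax
  · exact hr.bx
  · exact hr.ay
  · exact hr.by'
  · exact hr.xy
  · exact hr.abx
  · exact hr.aby
  · exact hr.axy
  · exact hr.bc
  · exact hr.cw
  · exact hr.bw
  · exact hr.cy
  · exact hr.yw
  · exact hr.cby
  · exact hr.bwy
  · have h1 : b * w * c * b * w * c * b * w * a * c * a = c * ((c * b * w) ^ 3 * (a * c) ^ 2) * c := by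
      simp only [pow_succ, pow_zero, one_mul, mul_assoc, hc, hr.cc, mul_one]
    rw [h1, hr.cbw, mul_one, hr.cc]
  · have h1 : w * y * c * w * y * c * w * y * a * c * a = c * ((c * w * y) ^ 3 * (a * c) ^ 2) * c := by
      simp only [pow_succ, pow_zero, one_mul, mul_assoc, hc, hr.cc, mul_one]
    rw [h1, hr.cwy, mul_one, hr.cc]
  · have h1 : x * c * x * a * c * a = c * ((c * x) ^ 2 * (a * c) ^ 2) * c := by
      simp only [pow_succ, pow_zero, one_mul, mul_assoc, hc, hr.cc, mul_one]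
    rw [h1, hr.cx, mul_one, hr.cc]
  · exact hr.xw
  · have h1 : w * a * w * c * a * c = (w * a) ^ 2 * (a * c) ^ 2 := by
      simp only [pow_succ, pow_zero, one_mul, mul_assoc, ha]
    rw [h1, hr.wa]
  · exact hr.zb
  · exact hr.zy
  · exact hr.zz
  · exact hr.bg
  · exact hr.bgy
  · exact hr.gc
  · exact hr.g1
  · exact hr.g2
  · exact hr.g3
  · exact hr.gx
  · exact hr.gw
  · exact hr.xybg
  · exact hr.wyg
  · exact hr.axgxg
  · exact hr.cwgwgb
  · exact hr.bcxg
  · exact hr.bwgywg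
  · exact hr.xygyxg

/-- **Recognition of `McL` by seven involutions.** -/
theorem isoMcL_of_rels {G : Type u} [Group G] [Nontrivial G] {a b c x y w g : G} (hr : McLRels a b c x y w g)
    (hgen : Subgroup.closure {a, b, c, x, y, w, g} = ⊤) : Spor.IsoMcL G := by
  refine isoMcL ![a, b, c, x, y, w, g] (rels_of hr) ?_
  rw [← hgen]
  congr 1
  ext z
  constructor
  · rintro ⟨k, rfl⟩
    fin_cases k <;> simp
  · intro hz
    simp only [Set.mem_insert_iff, Set.mem_singleton_iff] at hz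
    rcases hz with rfl | rfl | rfl | rfl | rfl | rfl | rfl
    · exact ⟨0, rfl⟩
    · exact ⟨1, rfl⟩
    · exact ⟨2, rfl⟩
    · exact ⟨3, rfl⟩
    · exact ⟨4, rfl⟩
    · exact ⟨5, rfl⟩
    · exact ⟨6, rfl⟩

end Cfsg.Agent.McLType.Upper
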