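import Cfsg.Agent.McLType.Assemble
import Cfsg.Agent.McLType.Upper

/-!
# Recognition of `McL` by a non-isolated involution whose centralizer is a double cover of `Alt(8)`
-/

set_option autoImplicit false
set_option maxRecDepth 100000

namespace Cfsg.Agent.McLType.Final

open Cfsg Subgroup
open Cfsg.Agent.SporadicRecognition.AltCover

theorem R_ok : Upper.R.all Relators.ok = true := by decide +kernel

universe v

/-- **Recognition of `McL`** by the centralizer `2.Alt(8)` of a non-isolated involution. -/
theorem isoMcL {G : Type v} [Group G] [Finite G] {t : G}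
    {π : centralizer ({t} : Set G) →* alternatingGroup (Fin 8)}
    (h : IsCover π (⟨t, Local.mem_cent.2 rfl⟩ : centralizer ({t} : Set G)))
    (hfus : ∃ g : G, g * t * g⁻¹ ≠ t ∧ g * t * g⁻¹ * t = t * (g * t * g⁻¹)) : Spor.IsoMcL G :=
  Assemble.isoMcL_of_presentation Upper.R Upper.R_idCheck R_ok (fun _ _ _ hR hH => Upper.bound hR hH) h hfus

end Cfsg.Agent.McLType.Final
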