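import Mathlib
import Cfsg.Agent.LeechMat.Elements
import Cfsg.Agent.SporadicStructure.PermChain
import Cfsg.Agent.S0404
import Cfsg.Agent.S1580
import Cfsg.Prelude.Def_Spor_Conway

/-!
The 275 minimal vectors of the Leech lattice defining the McLaughlin graph as an explicit table, the action of the
McLaughlin group `G1` on them as a homomorphism `ψ` to the permutations of `Fin 275`, its injectivity, and
`Spor.IsoMcL G1`.
-/

set_option autoImplicit false

namespace Cfsg.Agent.McLType.X275

open Cfsg Cfsg.Agent.LeechMat.Code Cfsg.Agent.LeechMat.Core Cfsg.Agent.LeechMat.Elements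
  Cfsg.Agent.SporadicStructure.PermChain

def cu0 : ℕ := 0xac6318c6318c6318c6318c6318c631
def cv0 : ℕ := 0xa42108421084210842108421084214

/-- `(5, 1^23)` -/
def u0 : leechLattice := ⟨vec cu0, isLeech_sound (by decide +kernel)⟩
/-- `(4, 4, 0^22)` -/
def v0 : leechLattice := ⟨vec cv0, isLeech_sound (by decide +kernel)⟩

theorem sqNorm_u0 : sqNorm (u0 : GolayPt → ℤ) = 48 := by
  rw [sqNorm_eq_dotInt]
  exact (dotc_eq cu0 cu0).symm.trans (by decide +kernel)
theorem sqNorm_v0 : sqNorm (v0 : GolayPt → ℤ) = 32 := by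
  rw [sqNorm_eq_dotInt]
  exact (dotc_eq cv0 cv0).symm.trans (by decide +kernel)
theorem dot_u0_v0 : dotInt (u0 : GolayPt → ℤ) (v0 : GolayPt → ℤ) = 24 :=
  (dotc_eq cu0 cv0).symm.trans (by decide +kernel)

/-- Codes of the 275 vectors (packed, 120 bits each), increasing. -/
def tabX : ℕ := 0xa52108421084210842108421084210a42908421084210842108421084210a42148421084210842108421084210a4210a421084210842108421084210a42108521084210842108421084210a42108429084210842108421084210a42108421484210842108421084210a421084210a4210842108421084210a42108421085210842108421084210a42108421084290842108421084210a42108421084214842108421084210a42108421084210a42108421084210a42108421084210852108421084210a42108421084210842908421084210a42108421084210842148421084210a4210842108421084210a421084210a42108421084210842108521084210a42108421084210842108429084210a42108421084210842108421484210a421084210842108421084210a4210a42108421084210842108421085210a421084210842108421084210842909c6318c6318c62f7c6317bdf17c5f19c6318c6318c5ef8c62f7be2f8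be319c6318c6318be317c5f17c62f8bdf19c6318c6318bdf18c5ef7c5f17c6319c6318c6317c62f8be2f8c5f17be319c6318c6317c5ef7be318c62f8c5f19c6318c6317be318bdef8be2f8c6319c6318c62f8c6318c5ef8bdf18bdf19c6318c62f8c5f17c5f18be2f7c6319c6318c62f8be2f8c62f8c62f7c5f19c6318c62f8bdef7c6318c5f18be319c6318c62f7c6317bdf17c5f18c6319c6318c5f18c6318bdf17be317be319c6318c5f18be2f8be317c5ef8c6319c6318c5f17c6317c5ef8c6317c5f19c6318c5f17c5f18c5f18c5ef8be319c6318c5f17bdef8c6318be317c6319c6318c5ef8c62f7be2f8be318c6319c6318c5ef8bdf18bdf18c6318c5f19c6318c5ef7c62f8c6317c6318bdf19c6318be318c6317be2f7c62f7c6319c6318be318c5f18be317c5f18bdf19c6318be317c6318c6318be2f7bdf19c6318be317c5f17c62f8bdf18c6319c6318be317be2f8c5f18c5f18c5f19c6318be2f8c62f8bdf18c62f8be319c6318be2f8be318be318bdf17c6319c6318be2f7bdf18c6317c62f8c6319c6318bdf18c5ef7c5f17c6318c6319c6318bdf18be318c62f7be318c5f19c6318bdf17be317be318c6318be319c6318bdef8c6317c6318c5ef8c5f19c6318bdef8c5f18c62f8c6317be319c6317c6318c62f7c5ef8c5ef8c6319c6317c6318c5ef8c5f18c6317bdf19c6317c6318be317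c62f8be317be319c6317c6318bdf18c6318bdef8c5f19c6317c6317be318be317c6317c5f19c6317c62f8c6318c6317c5ef7be319c6317c62f8c5f17c62f7c6318c5f19c6317c62f8be2f8c5f17be318c6319c6317c62f7c5f18be318be318be319c6317c5f18c6318be2f8c62f8bdf19c6317c5f18c5f17be318c5f17c6319c6317c5f17c6317c6317be2f8c6319c6317c5ef7be318c62f8c5f18c6319c6317be318c6317bdf18be318c5f19c6317be318bdef8be2f8c6318c6319c6317be317c6318c5ef7c6318be319c6317be2f7c62f7c6318c6317c6319c6317bdf18c62f8c6318bdf18be319c6317bdf18be318c5f18c62f7c6319c62f8c6318c5ef8bdf18bdf18c6319c62f8c6318be317be2f8c5f18c5f19c62f8c6318bdf18be318c62f7be319c62f8c6317c62f8c5f17c62f7c6319c62f8c6317be318c6317bdf18be319c62f8c62f8c6318be317be2f8c5f19c62f8c62f7c6317c62f8c62f8be319c62f8c62f7c5f18c6318c5f17c5f19c62f8c5f18c6318c62f8bdef7c6319c62f8c5f18c5f17c6318be318bdf19c62f8c5f18be2f8c5ef8c6318be319c62f8c5f17c5f18be2f7c6318c6319c62f8c5ef8be317c6317c6317c6319c62f8be318c6317c5f18c5f17be319c62f8be318c5f18c5ef8c62f8c5f19c62f8be318be2f7c6318be2f8c6319c62f8be2f8c62f8c62f7c5f18c6319c62f8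bdf18c62f8be318c6317c5f19c62f8bdef7c6318c5f18be318c6319c62f7c6318c62f7be317c6318be319c62f7c6317c62f8c62f8be318c5f19c62f7c6317bdf17c5f18c6318c6319c62f7c62f8c6318bdef8c6317c6319c62f7c5f18c6318c5f17c5f18c5f19c62f7c5ef8c5ef8c6318c62f8c6319c62f7be318c5f18c6317be317c6319c62f7be317c6318be318c5ef8c6319c62f7be2f8be318c6318c6318bdf19c5f18c6318c62f8bdef7c6318c5f19c5f18c6318bdf17be317be318c6319c5f18c6317c62f7c5f18be318be319c5f18c6317be317c6318c5ef7c6319c5f18c6317bdf18c62f8c6318bdf19c5f18c62f8c6317be318c6317bdf19c5f18c62f8c5f18be2f8c5ef8c6319c5f18c62f7c6318c62f7be317c6319c5f18c5f18c6317c62f7c5f18be319c5f18c5f18c5f18c6317c62f7c5f19c5f18c5f17c6318be318bdf18c5f19c5f18c5ef8c62f8c5f18c5f17c6319c5f18c5ef8be318c6318be2f8be319c5f18be318c6318c5f17bdef8c6319c5f18be318be2f8c6317c6317be319c5f18be317c5f18bdf18c6317c6319c5f18be2f8c5ef8c6318be318c5f19c5f18be2f8be317c5ef8c6318c6319c5f18bdf17c62f8c62f8c62f8c6319c5f17c6318c62f8be318be2f7c6319c5f17c6318be318bdf18c5f18be319c5f17c6317c5ef8c6317c5f18c6319c5f17c62f7c6318c5f18c62f8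c5f19c5f17c5f18c5f18c5ef8be318c6319c5f17c5f18be2f7c6318c6318c5f19c5f17be318c6318c62f8c5f17c5f19c5f17be318c5f17c6318c62f8be319c5f17bdef8c6318be317c6318c6319c5ef8c6318c62f8c6318c5ef8bdf19c5ef8c6318c5ef7c62f8c6317c6319c5ef8c6318be318c5f18be317c5f19c5ef8c62f8c5f18c5f17c6318be319c5ef8c62f7be2f8be318c6318c6319c5ef8c5f18c6317bdf18c62f8c6319c5ef8be318c6318be2f8be318be319c5ef8be317c6317c6317c6318c5f19c5ef8bdf18bdf18c6318c5f18c6319c5ef7c6318be318c62f7c62f8c6319c5ef7c62f8c6317c6318bdf18c6319c5ef7c5f17c6318c6318c6317be319be318c6318c6318bdf18c5ef7c5f19be318c6318c5f17bdef8c6318be319be318c6318be2f8be318be318bdf19be318c6317c5f18c5f17be318c5f19be318c6317be2f7c62f7c6318c6319be318c62f8c5ef8be317c6317c6319be318c62f7c62f8c6318bdef8c6319be318c62f7be318c5f18c6317be319be318c5f18c62f7c6318c62f7be319be318c5f18c5ef8c62f8c5f18c5f19be318c5f18be317c5f18bdf18c6319be318c5ef8c6318c5ef7c62f8c6319be318be318c62f8c5ef8be317c6319be318be318be318c62f8c5ef8be319be318be318bdf17c6318c6317c5f19be318be2f8c6317c6317be318be319be318be2f7c6318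be2f8c6318c5f19be318bdf18c5f18be318be2f8c6319be318bdf17c6318c6317c5f17c6319be317c6318c6318be2f7bdf18c6319be317c6317c6317c6318c5f18bdf19be317c6317c5f18c62f8c62f7c6319be317c62f8be317be318c62f8c6319be317c5f18bdf18c6317c6318be319be317c5f17c62f8bdf18c6318c6319be317c5ef8c6318c6318be317c5f19be317be318c62f8c6317c62f8c5f19be317be2f8c5f18c5f18c5f18c6319be2f8c6318c6318c62f7c6317bdf19be2f8c6318c5f17c6317c5ef8c6319be2f8c6317c6317be318be317c6319be2f8c62f8c62f7c5f18c6318c5f19be2f8c62f8bdf18c62f8be318c6319be2f8c5f17be318c6318c62f8c5f19be2f8c5ef8c6318be318c5f18be319be2f8be318be318bdf17c6318c6319be2f8be317c5ef8c6318c6318be319be2f7c6318c6318c5f18be2f8be319be2f7c6318be2f8c6318c5f17c6319be2f7bdf18c6317c62f8c6318c6319bdf18c6318c6317c62f8be2f8c5f19bdf18c6318c5f18c6318bdf17be319bdf18c6318bdef8c5f18c62f8c6319bdf18c6317c6318be317c62f8be319bdf18c62f8be318c6317c5f18c5f19bdf18c5f18be318be2f8c6317c6319bdf18c5ef7c5f17c6318c6318c6319bdf18be318c62f7be318c5f18c6319bdf18bdf18c6318c5f18c6318bdf19bdf17c6318c6317c5f17c6317c6319bdf17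c62f8c62f8c62f8c6318be319bdf17be317be318c6318be318c6319bdef8c6317c6318c5ef8c5f18c6319bdef8c5f18c62f8c6317be318c6319bdef8be2f8c6318c6318c62f7c6319bdef7c6318c5f18be318c6318c5f194a528421084a10942108421084a1294a50942508421084210842528421294a5084a108425084212942108421294a50842128421084a5084a108421294a50842109421284210842109425294a12942129421084210942108421294a1284a10842108421084a508425294a12842508425084250842109421294a12842108421284a12842128421294a1094a108421084a108421094a1294a109421084a1084252842108425294a1094210842529421084a108421294a1084a5284a1284210842108421294a1084a109421094250842128421294a1084250942108421284a1084a1294a10842508421094a10942108425294a108421284250842108421284a5294a10842128421094212842509421294a108421094a5084a10842508421294a108421084a108421094a129421294a108421084212842509425084a129425294a10842128425084210842129425284252842108421284210842529425284210942508421084a128421294252842108421084a109425094212942509421284a5084210842109421294250942109421094a1284210842129425094210842108421094a108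4a529425084a50842109421084a10942129425084a1294210842108425084a129425084a1084a1084a108421284252942508425094a1084250942108421294250842508425284a108421084a12942508421284212942109421284212942508421084a128421284a5084212942508421084250942508425084252942508421084210842528421294a12942129425084a1084a1084a1084212942129421084250842128425084a129421294210842109421084212942529421284a5084210842109421284a129421284a128425094a1084210842129421284a1094a10842128421094212942128425094212942108425084212942128421284a108425084252842129421284212842128421084a1094a1294212842109421084a508421084a52942128421084a528421094210842529421284210842109425294a10842129421094a50942508421084210842529421094a12842108421284a12842129421094a1084a10942109425084212942109425284210942508421084a1294210942508421284212942109421294210942128421284a108425084252942109421094a12842108421284a129421094210942108425084a509421294210942108425084a5094212842129421084a508421084a5284250842129421084a12842108425094210942529421084a109421284a1094a10842129421084a1084a508425084a1084a129421084a10842528421084252942129421084a1084212942128421084a5294210842529421084a1084212942129421084252842508421094a5084212942108425084a50942128421284212942108425084a10842108425094a529421084250842128425084a1284252942108421294a109421084a1084252942108421294252842528421084212942108421284a1084a129421084a12942108421094250942109421094a12942108421094210842129425284252942108421084a1294a50842109421294210842108425084a1284a109425294210842108421094a1084a5284a12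

theorem leechX : allBelow (fun i => isLeech (look 120 tabX i)) 275 = true := by decide +kernel

/-- The 275 vectors. -/
def X (i : Fin 275) : leechLattice :=
  ⟨vec (look 120 tabX i), isLeech_sound (allBelow_spec _ _ leechX i i.2)⟩

theorem coe_X (i : Fin 275) : (X i : GolayPt → ℤ) = vec (look 120 tabX i) := rfl

def dotsX : Bool := allBelow (fun i => dotc (look 120 tabX i) (look 120 tabX i) == 32 &&
  (dotc cu0 (look 120 tabX i) == 24 && dotc cv0 (look 120 tabX i) == 16)) 275

theorem dotsX_eq : dotsX = true := by decide +kernel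

theorem dots_spec (i : Fin 275) : sqNorm (X i : GolayPt → ℤ) = 32 ∧
    dotInt (u0 : GolayPt → ℤ) (X i : GolayPt → ℤ) = 24 ∧ dotInt (v0 : GolayPt → ℤ) (X i : GolayPt → ℤ) = 16 := by
  have h := allBelow_spec _ _ dotsX_eq i i.2
  rw [Bool.and_eq_true, Bool.and_eq_true, beq_iff_eq, beq_iff_eq, beq_iff_eq] at h
  refine ⟨?_, ?_, ?_⟩
  · rw [sqNorm_eq_dotInt, coe_X, ← dotc_eq]
    exact h.1
  · exact (dotc_eq cu0 _).symm.trans h.2.1
  · exact (dotc_eq cv0 _).symm.trans h.2.2

def sortedX : Bool := allBelow (fun i => Nat.blt (look 120 tabX i) (look 120 tabX (i + 1))) 274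

theorem sortedX_eq : sortedX = true := by decide +kernel

theorem look_lt {i j : ℕ} (hij : i < j) (hj : j < 275) : look 120 tabX i < look 120 tabX j := by
  induction j with
  | zero => exact absurd hij (Nat.not_lt_zero i)
  | succ j ih =>
    have h1 := allBelow_spec _ _ sortedX_eq j (by omega)
    rw [Nat.blt_eq] at h1
    rcases Nat.lt_succ_iff_lt_or_eq.1 hij with h | h
    · exact (ih h (by omega)).trans h1
    · rw [h]; exact h1

theorem dig_testBit (a k r : ℕ) (hr : r < 5) : (dig a k).testBit r = a.testBit (5 * k + r) := by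
  unfold dig
  rw [show (32 : ℕ) = 2 ^ 5 from rfl, Nat.testBit_mod_two_pow, Nat.testBit_shiftRight]
  simp [hr]

theorem code_inj {a b : ℕ} (ha : a < 2 ^ 120) (hb : b < 2 ^ 120) (h : vec a = vec b) : a = b := by
  apply Nat.eq_of_testBit_eq
  intro i
  by_cases hi : i < 120
  · have h1 := congrFun h (pt (i / 5))
    change sdig _ (pos (pt (i / 5))) = sdig _ (pos (pt (i / 5))) at h1
    rw [pos_pt _ (show i / 5 < 24 by omega)] at h1
    have h2 : dig a (i / 5) = dig b (i / 5) := by
      unfold sdig at h1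
      omega
    have h3 : i = 5 * (i / 5) + i % 5 := by omega
    rw [h3, ← dig_testBit a _ _ (Nat.mod_lt _ (by norm_num)), ← dig_testBit b _ _ (Nat.mod_lt _ (by norm_num)), h2]
  · rw [Nat.testBit_eq_false_of_lt (ha.trans_le (Nat.pow_le_pow_right (by norm_num) (by omega))),
      Nat.testBit_eq_false_of_lt (hb.trans_le (Nat.pow_le_pow_right (by norm_num) (by omega)))]

theorem X_injective : Function.Injective X := by
  have key : ∀ i j : Fin 275, i < j → X i ≠ X j := by
    intro i j hij hX
    have h1 := congrArg (fun z : leechLattice => (z : GolayPt → ℤ)) hX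
    change vec _ = vec _ at h1
    have h2 := look_lt (show (i : ℕ) < j from hij) j.2
    have h3 : look 120 tabX i = look 120 tabX j :=
      code_inj (Nat.mod_lt _ (by norm_num)) (Nat.mod_lt _ (by norm_num)) h1
    exact absurd h3 (Nat.ne_of_lt h2)
  intro i j hij
  rcases lt_trichotomy i j with h | h | h
  · exact absurd hij (key i j h)
  · exact h
  · exact absurd hij.symm (key j i h)

/-- The set of the 275 vectors, as in S1580. -/
def S : Set leechLattice := {x : ↥Cfsg.leechLattice | Cfsg.sqNorm (x : Cfsg.GolayPt → ℤ) = 32 ∧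
  Cfsg.sqNorm ((u0 - x) : Cfsg.GolayPt → ℤ) = 32 ∧ Cfsg.dotInt (v0 : Cfsg.GolayPt → ℤ) (x : Cfsg.GolayPt → ℤ) = 16}

theorem sqNorm_sub (x y : GolayPt → ℤ) : sqNorm (x - y) = sqNorm x - 2 * dotInt x y + sqNorm y := by
  unfold sqNorm dotInt
  rw [Finset.mul_sum, ← Finset.sum_sub_distrib, ← Finset.sum_add_distrib]
  refine Finset.sum_congr rfl fun i _ => ?_
  rw [Pi.sub_apply]
  ring

theorem X_mem (i : Fin 275) : X i ∈ S := by
  obtain ⟨h1, h2, h3⟩ := dots_spec i
  refine ⟨h1, ?_, h3⟩
  rw [sqNorm_sub, sqNorm_u0, h1, h2]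
  norm_num

theorem norm_sub_v0 : sqNorm ((u0 - v0) : GolayPt → ℤ) = 32 := by
  rw [sqNorm_sub, sqNorm_u0, sqNorm_v0, dot_u0_v0]
  norm_num

theorem ncard_S : S.ncard = 275 := (S1580.result u0 v0 sqNorm_u0 ⟨sqNorm_v0, norm_sub_v0⟩).1

theorem range_X : Set.range X = S := by
  apply Set.eq_of_subset_of_ncard_le
  · rintro _ ⟨i, rfl⟩
    exact X_mem i
  · rw [ncard_S, ← Set.image_univ, Set.ncard_image_of_injective _ X_injective, Set.ncard_univ]
    simp
  · exact Set.finite_of_ncard_ne_zero (by rw [ncard_S]; norm_num)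

/-- The joint stabiliser of `u0` and `v0`. -/
def G1 : Subgroup Co0 := MulAction.stabilizer Co0 u0 ⊓ MulAction.stabilizer Co0 v0

theorem isMcL_G1 : IsMcL G1 := by
  obtain ⟨w0, hw0⟩ : ∃ w : leechLattice, w = u0 - v0 := ⟨_, rfl⟩
  have h1 : sqNorm (w0 : GolayPt → ℤ) = 32 := by rw [hw0]; exact norm_sub_v0
  have h2 : dotInt (v0 : GolayPt → ℤ) (w0 : GolayPt → ℤ) = -8 := by
    have h := sqNorm_v0
    have h' := dot_u0_v0
    rw [sqNorm_eq_dotInt] at h
    have h3 : dotInt (v0 : GolayPt → ℤ) (w0 : GolayPt → ℤ) = dotInt (u0 : GolayPt → ℤ) (v0 : GolayPt → ℤ) -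
        dotInt (v0 : GolayPt → ℤ) (v0 : GolayPt → ℤ) := by
      rw [hw0]
      unfold dotInt
      rw [← Finset.sum_sub_distrib]
      refine Finset.sum_congr rfl fun i _ => ?_
      change (v0 : GolayPt → ℤ) i * ((u0 : GolayPt → ℤ) i - (v0 : GolayPt → ℤ) i) = _
      ring
    rw [h3, h, h']
    norm_num
  have h3 := S0404.result v0 w0 sqNorm_v0 h1 h2
  have h4 : MulAction.stabilizer Co0 v0 ⊓ MulAction.stabilizer Co0 w0 = G1 := by
    ext g
    have hsub : g • (u0 - v0) = g • u0 - g • v0 := by
      have hadd := g.2.1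
      have ha : (g • (u0 - v0) : leechLattice) + g • v0 = g • u0 := by
        have := hadd (u0 - v0) v0
        rw [sub_add_cancel] at this
        exact this.symm
      rw [← ha, add_sub_cancel_right]
    constructor
    · rintro ⟨ha, hb⟩
      have ha' : g • v0 = v0 := ha
      have hb' : g • w0 = w0 := hb
      rw [hw0, hsub, ha'] at hb'
      exact ⟨sub_left_injective hb', ha⟩
    · rintro ⟨ha, hb⟩
      have ha' : g • u0 = u0 := ha
      have hb' : g • v0 = v0 := hb
      refine ⟨hb, ?_⟩
      change g • w0 = w0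
      rw [hw0, hsub, ha', hb']
  rwa [h4] at h3

/-- The matrix (columns `A`) maps the vector coded by `b` to `d` times the one coded by `y`. -/
def sends (d : ℕ) (A : List ℕ) (b y : ℕ) : Bool :=
  allTo (fun k => mvAt A b k == (d : ℤ) * sdig y k) 24

theorem smul_eq_of_sends {d : ℕ} {A : List ℕ} (hd : d ≠ 0) (hA : A.length = 24) {g : Co0}
    (hg : ∀ x : leechLattice, mv A (x : GolayPt → ℤ) = (d : ℤ) • ((g • x : leechLattice) : GolayPt → ℤ))
    {b y : ℕ} (h : sends d A b y = true) (x z : leechLattice) (hx : (x : GolayPt → ℤ) = vec b)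
    (hz : (z : GolayPt → ℤ) = vec y) : g • x = z := by
  apply Subtype.ext
  funext p
  have h1 := congrFun (hg x) p
  rw [hx, mv_vec hA] at h1
  unfold sends at h
  rw [allTo_iff] at h
  have h2 := h (pos p) (pos_lt p)
  rw [beq_iff_eq] at h2
  rw [h2, Pi.smul_apply, smul_eq_mul] at h1
  rw [hz, vec_apply]
  exact (mul_left_cancel₀ (by exact_mod_cast hd) h1).symm

theorem co0_sub (g : Co0) (x y : leechLattice) : g • (x - y) = g • x - g • y := by
  have hadd := g.2.1
  have ha : (g • (x - y) : leechLattice) + g • y = g • x := by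
    have := hadd (x - y) y
    rw [sub_add_cancel] at this
    exact this.symm
  rw [← ha, add_sub_cancel_right]

theorem smul_mem_S (g : G1) {x : leechLattice} (hx : x ∈ S) : (g : Co0) • x ∈ S := by
  have hu : (g : Co0) • u0 = u0 := g.2.1
  have hv : (g : Co0) • v0 = v0 := g.2.2
  obtain ⟨h1, h2, h3⟩ := hx
  refine ⟨?_, ?_, ?_⟩
  · rw [← h1]
    exact (g : Co0).2.2 x
  · have h4 : (g : Co0) • (u0 - x) = u0 - (g : Co0) • x := by rw [co0_sub, hu]
    have h5 := (g : Co0).2.2 (u0 - x)
    change sqNorm (((g : Co0) • (u0 - x) : leechLattice) : GolayPt → ℤ) = _ at h5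
    rw [h4] at h5
    exact h5.trans h2
  · have h4 := (g : Co0).2.2 (v0 - x)
    change sqNorm (((g : Co0) • (v0 - x) : leechLattice) : GolayPt → ℤ) = _ at h4
    rw [co0_sub, hv] at h4
    change sqNorm ((v0 : GolayPt → ℤ) - (((g : Co0) • x : leechLattice) : GolayPt → ℤ)) =
      sqNorm ((v0 : GolayPt → ℤ) - (x : GolayPt → ℤ)) at h4
    rw [sqNorm_sub, sqNorm_sub] at h4
    have h6 : sqNorm (((g : Co0) • x : leechLattice) : GolayPt → ℤ) = sqNorm (x : GolayPt → ℤ) :=
      (g : Co0).2.2 x
    rw [h6, h3] at h4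
    linarith

theorem exists_X {x : leechLattice} (hx : x ∈ S) : ∃ i, X i = x := by
  rwa [← range_X] at hx

/-- The permutation of the 275 vectors induced by an element of `G1`. -/
noncomputable def ψ : G1 →* Equiv.Perm (Fin 275) :=
  MonoidHom.toHomPerm
    { toFun := fun g i => (exists_X (smul_mem_S g (X_mem i))).choose
      map_one' := by
        funext i
        apply X_injective
        rw [(exists_X (smul_mem_S (1 : G1) (X_mem i))).choose_spec]
        exact one_smul Co0 (X i)
      map_mul' := by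
        intro g h
        funext i
        apply X_injective
        rw [(exists_X (smul_mem_S (g * h) (X_mem i))).choose_spec]
        change _ = X (exists_X (smul_mem_S g (X_mem (exists_X (smul_mem_S h (X_mem i))).choose))).choose
        rw [(exists_X (smul_mem_S g (X_mem _))).choose_spec, (exists_X (smul_mem_S h (X_mem i))).choose_spec]
        exact mul_smul (g : Co0) (h : Co0) (X i) }

theorem X_ψ (g : G1) (i : Fin 275) : X (ψ g i) = (g : Co0) • X i :=
  (exists_X (smul_mem_S g (X_mem i))).choose_spec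

theorem ψ_eq_of (g : G1) (τ : Equiv.Perm (Fin 275)) (h : ∀ i, (g : Co0) • X i = X (τ i)) : ψ g = τ :=
  Equiv.ext fun i => X_injective ((X_ψ g i).trans (h i))

theorem ψ_injective : Function.Injective ψ := by
  have hs : IsSimpleGroup G1 := isMcL_G1.1
  rw [← MonoidHom.ker_eq_bot_iff]
  rcases IsSimpleGroup.eq_bot_or_eq_top_of_normal (ψ.ker) inferInstance with h | h
  · exact h
  · exfalso
    obtain ⟨g, h1, h2, h3⟩ := (S1580.result u0 v0 sqNorm_u0 ⟨sqNorm_v0, norm_sub_v0⟩).2 (X 0) (X_mem 0) (X 1) (X_mem 1)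
    have h4 : (⟨g, h1, h2⟩ : G1) ∈ ψ.ker := by rw [h]; trivial
    have h5 := X_ψ ⟨g, h1, h2⟩ 0
    rw [MonoidHom.mem_ker.1 h4] at h5
    have h6 : X 0 = X 1 := h5.trans h3
    exact absurd (X_injective h6) (by decide)

theorem card_G1 : Nat.card G1 = 898128000 := isMcL_G1.2

/-- Existence of an element of `G1` with given matrix and permutation of the 275 vectors. -/
theorem exists_gen_of {d : ℕ} (hd : d ≠ 0) {A ys : List ℕ} (hA : A.length = 24) (h : checkMat d A ys = true)
    (hu : sends d A cu0 cu0 = true) (hv : sends d A cv0 cv0 = true) {t : ℕ}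
    (hs : allBelow (fun i => sends d A (look 120 tabX i) (look 120 tabX (look 9 t i))) 275 = true)
    (τ : Equiv.Perm (Fin 275)) (hτ : ∀ i, (τ i : ℕ) = look 9 t i) : ∃ g : G1, ψ g = τ := by
  obtain ⟨g, hg⟩ := exists_co0 h
  refine ⟨⟨g, smul_eq_of_sends hd hA hg hu u0 u0 rfl rfl, smul_eq_of_sends hd hA hg hv v0 v0 rfl rfl⟩,
    ψ_eq_of _ _ fun i => ?_⟩
  refine smul_eq_of_sends hd hA hg (allBelow_spec _ _ hs i i.2) _ _ rfl ?_
  rw [coe_X, hτ]

theorem coe_leechU : v0 = Spor.leechU := by
  apply Subtype.ext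
  funext p
  have : ∀ p, vec cv0 p = Spor.vecU p := by decide +kernel
  exact this p

theorem coe_leechV : -u0 = Spor.leechV := by
  apply Subtype.ext
  funext p
  have : ∀ p, -vec cu0 p = Spor.vecV p := by decide +kernel
  exact this p

theorem co0_neg (g : Co0) (x : leechLattice) : g • (-x) = -(g • x) := by
  have h0 : g • (0 : leechLattice) = 0 := by
    have := co0_sub g 0 0
    rw [sub_self, sub_self] at this
    exact this
  have := co0_sub g 0 x
  rwa [zero_sub, h0, zero_sub] at this

theorem map_G1 : G1.map Co0.subtype = Spor.McL := by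
  ext f
  constructor
  · rintro ⟨g, ⟨h1, h2⟩, rfl⟩
    have h1' : g • u0 = u0 := h1
    have h2' : g • v0 = v0 := h2
    refine ⟨⟨g.2, ?_⟩, ?_⟩
    · rw [← coe_leechV]
      change g • (-u0) = -u0
      rw [co0_neg, h1']
    · rw [← coe_leechU]
      exact h2'
  · rintro ⟨⟨h0, h1⟩, h2⟩
    rw [← coe_leechV] at h1
    rw [← coe_leechU] at h2
    have h1' : (⟨f, h0⟩ : Co0) • (-u0) = -u0 := h1
    have h2' : (⟨f, h0⟩ : Co0) • v0 = v0 := h2
    rw [co0_neg, neg_inj] at h1'
    exact ⟨⟨f, h0⟩, ⟨h1', h2'⟩, rfl⟩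

theorem isoMcL_G1 : Spor.IsoMcL G1 := by
  rw [Spor.IsoMcL, ← map_G1]
  exact ⟨G1.equivMapOfInjective _ Co0.subtype_injective⟩

end Cfsg.Agent.McLType.X275
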