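import Cfsg.Agent.McLType.Model
import Cfsg.Agent.McLType.ThreeElts
import Cfsg.Agent.StandardComponent.AltTransfer
import Cfsg.Agent.TwoFusion.ClosingPrime

/-!
# The closing step of the recognition of McL

If the subgroup `H ≅ McL` contains the centralizer `2.A_8` of an involution then `H` is the whole group, given that every
element of order 3 of McL commutes with an involution.
-/

set_option autoImplicit false

namespace Cfsg.Agent.McLType.Close

open Cfsg Cfsg.Agent.SporRec.TwoAn Cfsg.Agent.StandardComponent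

/-- The involutions of a group `H ≥ C_G(z) = 2.A_8` with `|H : C_G(z)|` odd form one class, if `z` is not isolated. -/
theorem one_class {G : Type*} [Group G] [Finite G] {z : G} {n : ℕ} (hn : n < 16)
    (K : Cover (Fin n) (Subgroup.centralizer ({z} : Set G)))
    (hK : (K.z : G) = z) (H : Subgroup G) (hCH : Subgroup.centralizer ({z} : Set G) ≤ H)
    (hodd : Odd ((Subgroup.centralizer ({z} : Set G)).relIndex H))
    (hne : ∃ g ∈ H, g * z * g⁻¹ ≠ z ∧ g * z * g⁻¹ * z = z * (g * z * g⁻¹)) (x : G) (hx : x ∈ H)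
    (hx2 : orderOf x = 2) : ∃ g ∈ H, g * z * g⁻¹ = x := by
  have hxx : x * x = 1 := by rw [← pow_two, ← hx2, pow_orderOf_eq_one]
  have hx1 : x ≠ 1 := by rintro rfl; rw [orderOf_one] at hx2; exact absurd hx2 (by decide)
  have hzz : z * z = 1 := by
    have := congrArg Subtype.val K.z_mul_z
    rwa [← hK]
  have hz1 : z ≠ 1 := fun h => K.z_ne (Subtype.ext (by rw [hK, h]; rfl))
  obtain ⟨h, hh, hhx⟩ := AltTransfer.exists_conj_mem_of_odd_relIndex hodd hx hxx
  have hsq : (⟨_, hhx⟩ : Subgroup.centralizer ({z} : Set G)) * ⟨_, hhx⟩ = 1 := by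
    apply Subtype.ext
    show h⁻¹ * x * h * (h⁻¹ * x * h) = 1
    rw [show h⁻¹ * x * h * (h⁻¹ * x * h) = h⁻¹ * (x * x) * h by group, hxx]; group
  have hne1 : h⁻¹ * x * h ≠ 1 := by
    intro h1
    apply hx1
    rw [show x = h * (h⁻¹ * x * h) * h⁻¹ by group, h1]; group
  have hcl : ∃ g ∈ H, g * z * g⁻¹ = h⁻¹ * x * h := by
    by_cases h1 : K.π ⟨_, hhx⟩ = 1
    · rcases (K.ker _).1 h1 with h2 | h2
      · exact absurd (congrArg Subtype.val h2) hne1
      · refine ⟨1, H.one_mem, ?_⟩
        have h3 : h⁻¹ * x * h = z := by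
          have := congrArg Subtype.val h2
          rwa [hK] at this
        rw [h3]; group
    · obtain ⟨g, hg, hg1, hg2⟩ := hne
      have hu : g * z * g⁻¹ ∈ Subgroup.centralizer ({z} : Set G) := Subgroup.mem_centralizer_singleton_iff.2 hg2
      have husq : (⟨_, hu⟩ : Subgroup.centralizer ({z} : Set G)) * ⟨_, hu⟩ = 1 := by
        apply Subtype.ext
        show g * z * g⁻¹ * (g * z * g⁻¹) = 1
        rw [show g * z * g⁻¹ * (g * z * g⁻¹) = g * (z * z) * g⁻¹ by group, hzz]; group
      have hu1 : K.π ⟨_, hu⟩ ≠ 1 := by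
        intro h3
        rcases (K.ker _).1 h3 with h4 | h4
        · apply hz1
          have h5 : g * z * g⁻¹ = 1 := congrArg Subtype.val h4
          rw [show z = g⁻¹ * (g * z * g⁻¹) * g by group, h5]; group
        · apply hg1
          have := congrArg Subtype.val h4
          rwa [hK] at this
      obtain ⟨⟨w, hw⟩, hwx⟩ := CoverExtra.exists_conj_of_card_lt K (by rwa [Fintype.card_fin]) husq hsq hu1 h1
      refine ⟨w * g, H.mul_mem (hCH hw) hg, ?_⟩
      have h6 : w * (g * z * g⁻¹) * w⁻¹ = h⁻¹ * x * h := congrArg Subtype.val hwx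
      rw [← h6]; group
  obtain ⟨g, hg, hgx⟩ := hcl
  refine ⟨h * g, H.mul_mem hh hg, ?_⟩
  rw [show h * g * z * (h * g)⁻¹ = h * (g * z * g⁻¹) * h⁻¹ by group, hgx]; group

/-- The closing step. -/
theorem eq_top {G : Type*} [Group G] [Finite G] {z : G} (K : Cover (Fin 8) (Subgroup.centralizer ({z} : Set G)))
    (hK : (K.z : G) = z) (H : Subgroup G) (hCH : Subgroup.centralizer ({z} : Set G) ≤ H)
    (hne : ∃ g ∈ H, g * z * g⁻¹ ≠ z ∧ g * z * g⁻¹ * z = z * (g * z * g⁻¹)) (hH : Spor.IsoMcL H) : H = ⊤ := by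
  have hzord : orderOf z = 2 := by rw [← hK, Subgroup.orderOf_coe, K.orderOf_z]
  have hcardC : Nat.card (Subgroup.centralizer ({z} : Set G)) = 40320 := by
    rw [CoverExtra.card_eq K (by simp), Fintype.card_fin]; rfl
  have hcardH : Nat.card H = 898128000 := ThreeElts.card_of_iso hH
  have hrel : (Subgroup.centralizer ({z} : Set G)).relIndex H = 22275 := by
    have h1 := Subgroup.card_mul_index ((Subgroup.centralizer ({z} : Set G)).subgroupOf H)
    rw [Nat.card_congr (Subgroup.subgroupOfEquivOfLe hCH).toEquiv, hcardC, hcardH] at h1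
    rw [Subgroup.relIndex]
    omega
  refine TwoFusion.ClosingPrime.eq_top_of_prime hzord hCH
    (one_class (by norm_num) K hK H hCH (by rw [hrel]; decide) hne) 3 Nat.prime_three (by rw [hrel]; decide) ?_
  intro k hk hk3
  obtain ⟨s, hs, hsk⟩ := ThreeElts.exists_commuting_involution_of_iso hH ⟨k, hk⟩ (by rw [Subgroup.orderOf_mk, hk3])
  exact ⟨s, s.2, by rw [Subgroup.orderOf_coe, hs], congrArg Subtype.val hsk⟩

/-- The closing step, conclusion for the group. -/
theorem isoMcL {G : Type*} [Group G] [Finite G] {z : G} (K : Cover (Fin 8) (Subgroup.centralizer ({z} : Set G)))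
    (hK : (K.z : G) = z) (H : Subgroup G) (hCH : Subgroup.centralizer ({z} : Set G) ≤ H)
    (hne : ∃ g ∈ H, g * z * g⁻¹ ≠ z ∧ g * z * g⁻¹ * z = z * (g * z * g⁻¹)) (hH : Spor.IsoMcL H) :
    Spor.IsoMcL G := by
  have h1 := eq_top K hK H hCH hne hH
  subst h1
  obtain ⟨e⟩ := hH
  exact ⟨(Subgroup.topEquiv (G := G)).symm.trans e⟩

end Cfsg.Agent.McLType.Close
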