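import Cfsg.Agent.McLType.Relators
import Cfsg.Agent.McLType.Close
import Cfsg.Agent.McLType.Model

/-!
# Recognition of the McLaughlin group by an involution centralizer `2.A_8`

`isoMcL_of_presentation`: the recognition theorem, given a bound for the order of the groups
presented by a list of relators which pass the test `Relators.ok`.
-/

set_option autoImplicit false

namespace Cfsg.Agent.McLType.Assemble

open Cfsg Local Relators Subgroup
open Cfsg.Agent.SporadicRecognition.AltCover

/-- The seven generators. -/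
theorem exists_gens {G : Type*} [Group G] {t : G}
    {π : centralizer ({t} : Set G) →* alternatingGroup (Fin 8)}
    (h : IsCover π (⟨t, mem_cent.2 rfl⟩ : centralizer ({t} : Set G)))
    (hfus : ∃ g : G, g * t * g⁻¹ ≠ t ∧ g * t * g⁻¹ * t = t * (g * t * g⁻¹)) :
    ∃ s : Fin 7 → G, (∀ r, ok r = true → (r.map s).prod = 1) ∧
      centralizer ({t} : Set G) ≤ closure (Set.range s) ∧
      ∃ g ∈ closure (Set.range s), g * t * g⁻¹ ≠ t ∧ g * t * g⁻¹ * t = t * (g * t * g⁻¹) := by
  obtain ⟨a, b, c, x, y, w, u, F⟩ := exists_gfacts h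
  obtain ⟨g, hg1, hg2⟩ := hfus
  obtain ⟨d, h1, h2, h3, h4, h5, h6, h7⟩ := F.exists_d ⟨g, _, rfl, hg1, hg2⟩
  have D : Data t a b c x y w u d := ⟨F, h1, h2, h3, h4, h5, h6, h7⟩
  set s := gen a b c x y w (b * (d * (y * b)⁻¹)) with hs
  have hmem : ∀ k : Fin 7, s k ∈ closure (Set.range s) := fun k => subset_closure ⟨k, rfl⟩
  have hle : centralizer ({t} : Set G) ≤ closure (Set.range s) := by
    rw [← F.gen, closure_le]
    rintro v (rfl | rfl | rfl | rfl | rfl | rfl)
    · exact hmem 0
    · exact hmem 1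
    · exact hmem 2
    · exact hmem 3
    · exact hmem 4
    · exact hmem 5
  refine ⟨s, fun r hr => D.ok_spec hr, hle, d * (y * b)⁻¹, ?_, ?_, ?_⟩
  · have hg6 : s 6 = b * (d * (y * b)⁻¹) := rfl
    have hb : b ∈ closure (Set.range s) := hmem 1
    have h8 : b⁻¹ * s 6 = d * (y * b)⁻¹ := by rw [hg6, inv_mul_cancel_left]
    rw [← h8]
    exact mul_mem (inv_mem hb) (hmem 6)
  · have h8 : d * (y * b)⁻¹ * t * (d * (y * b)⁻¹)⁻¹ = u := D.ez
    rw [h8]
    exact F.u_ne_z
  · have h8 : d * (y * b)⁻¹ * t * (d * (y * b)⁻¹)⁻¹ = u := D.ez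
    rw [h8]
    exact F.uz

universe v

/-- **Recognition of `McL`**, given a presentation. -/
theorem isoMcL_of_presentation (R : List (List (Fin 7))) (hR : R.all Model.idCheck = true)
    (hok : R.all ok = true)
    (hbound : ∀ (H : Type v) [Group H] (h : Fin 7 → H), (∀ r ∈ R, (r.map h).prod = 1) →
      closure (Set.range h) = ⊤ → Finite H ∧ Nat.card H ≤ 898128000)
    {G : Type v} [Group G] [Finite G] {t : G}
    {π : centralizer ({t} : Set G) →* alternatingGroup (Fin 8)}
    (h : IsCover π (⟨t, mem_cent.2 rfl⟩ : centralizer ({t} : Set G)))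
    (hfus : ∃ g : G, g * t * g⁻¹ ≠ t ∧ g * t * g⁻¹ * t = t * (g * t * g⁻¹)) : Spor.IsoMcL G := by
  obtain ⟨s, hs, hle, hne⟩ := exists_gens h hfus
  set H := closure (Set.range s) with hH
  let s' : Fin 7 → H := fun k => ⟨s k, subset_closure ⟨k, rfl⟩⟩
  have ht1 : t ≠ 1 := fun h1 => h.z_ne (Subtype.ext h1)
  have htH : t ∈ H := hle (mem_cent.2 rfl)
  have : Nontrivial H := ⟨⟨⟨t, htH⟩, 1, fun h1 => ht1 (congrArg Subtype.val h1)⟩⟩
  have hiso : Spor.IsoMcL H := by
    refine Model.isoMcL_of_bound R hR hbound s' (fun r hr => ?_) ?_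
    · have h1 := hs r (List.all_eq_true.1 hok r hr)
      apply Subtype.ext
      have h2 : ∀ l : List (Fin 7), (((l.map s').prod : H) : G) = (l.map s).prod := by
        intro l
        induction l with
        | nil => rfl
        | cons k l ih => rw [List.map_cons, List.map_cons, List.prod_cons, List.prod_cons,
            Subgroup.coe_mul, ih]
      exact (h2 r).trans h1
    · apply Subgroup.map_injective H.subtype_injective
      rw [MonoidHom.map_closure, ← Set.range_comp, ← MonoidHom.range_eq_map, Subgroup.range_subtype]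
      rfl
  exact Close.isoMcL (Cfsg.Agent.SporRec.TwoAn.ofIsCover (by norm_num) h) rfl H hle hne hiso

/-- the relators of the blueprint hold in the model -/
theorem bp_id : bp.all Model.idCheck = true := by decide +kernel

end Cfsg.Agent.McLType.Assemble
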