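import Cfsg.Agent.McLType.X275
import Cfsg.Agent.TwoFusion.ClosingPrime
import Cfsg.Agent.TwoFusion.OneClassOddIndex

/-!
# Closing step of the McLaughlin type recognition

A subgroup `H` of the finite group `G` which is isomorphic to the McLaughlin group and contains
`C_G(t)` (of order 40320 = |2.A₈|), all involutions of `C_G(t)` being `H`-conjugate to `t`, is all of
`G`. The only input from the McLaughlin group: its elements of order three commute with involutions.
-/

set_option autoImplicit false

namespace Cfsg.Agent.McLType.Closing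

open Cfsg Cfsg.Agent.McLType.X275

theorem eq_top (hF4 : ∀ x : G1, orderOf x = 3 → ∃ s : G1, orderOf s = 2 ∧ s * x = x * s)
    {G : Type*} [Group G] [Finite G] {t : G} (ht : orderOf t = 2) {H : Subgroup G} (hH : Spor.IsoMcL H)
    (hC : Subgroup.centralizer ({t} : Set G) ≤ H)
    (hcC : Nat.card (Subgroup.centralizer ({t} : Set G)) = 40320)
    (hinv : ∀ y : G, y * t = t * y → orderOf y = 2 → ∃ k ∈ H, k * t * k⁻¹ = y) : H = ⊤ := by
  obtain ⟨e1⟩ := hH
  obtain ⟨e2⟩ := isoMcL_G1
  let e : H ≃* G1 := e1.trans e2.symm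
  have hcard : Nat.card H = 898128000 := by
    rw [Nat.card_congr e.toEquiv]
    exact card_G1
  have hrel : (Subgroup.centralizer ({t} : Set G)).relIndex H = 22275 := by
    have h1 : Nat.card ((Subgroup.centralizer ({t} : Set G)).subgroupOf H) = 40320 := by
      rw [← hcC]
      exact Nat.card_congr (Subgroup.subgroupOfEquivOfLe hC).toEquiv
    have h2 := Subgroup.card_mul_index ((Subgroup.centralizer ({t} : Set G)).subgroupOf H)
    rw [h1, hcard] at h2
    rw [Subgroup.relIndex]
    omega
  refine Cfsg.Agent.TwoFusion.ClosingPrime.eq_top_of_prime ht hC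
    (Cfsg.Agent.TwoFusion.OneClassOddIndex.one_class hC (by rw [hrel]; norm_num) hinv) 3 Nat.prime_three
    (by rw [hrel]; norm_num) ?_
  intro k hk hk3
  obtain ⟨s, h1, h2⟩ := hF4 (e ⟨k, hk⟩) (by
    rw [MulEquiv.orderOf_eq, ← hk3]; exact Subgroup.orderOf_mk k hk)
  refine ⟨(e.symm s : H), (e.symm s).2, ?_, ?_⟩
  · rw [Subgroup.orderOf_coe, MulEquiv.orderOf_eq, h1]
  · have h3 : e.symm s * (⟨k, hk⟩ : H) = (⟨k, hk⟩ : H) * e.symm s := by
      apply e.injective
      rw [map_mul, map_mul, e.apply_symm_apply, h2]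
    exact congrArg Subtype.val h3

end Cfsg.Agent.McLType.Closing
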