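import Cfsg.Agent.McLType.Model8
import Cfsg.Agent.SporRec.TwoAn

/-!
# Facts on the double cover of `A_8`

`exists_facts`: the elements `a b c x y w` of the double cover of `A_8` and the structure of the
centralizer of the involution `u = (babc)^2`.
-/

set_option autoImplicit false
set_option maxRecDepth 100000

namespace Cfsg.Agent.McLType.Facts8

open Equiv
open Cfsg.Agent.SporadicRecognition.AltCover
open Cfsg.Agent.Lib.AltCarmichael
open Model8

/-- the seven letters `a b c x y w z` -/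
def letter {G : Type*} (a b c x y w z : G) : ℕ → G
  | 0 => a
  | 1 => b
  | 2 => c
  | 3 => x
  | 4 => y
  | 5 => w
  | _ => z

/-- products of four elements with the bits of a number as exponents -/
def four {G : Type*} [Group G] (e₀ e₁ e₂ e₃ : G) (i : ℕ) : G :=
  (if i.testBit 0 then e₀ else 1) * (if i.testBit 1 then e₁ else 1) *
    (if i.testBit 2 then e₂ else 1) * (if i.testBit 3 then e₃ else 1)

/-- the facts on the double cover of `A_8` which are used in the local analysis -/
structure Facts {C : Type*} [Group C] (z a b c x y w u : C) : Prop where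
  z_ne : z ≠ 1
  z_comm : ∀ k, k * z = z * k
  words : ∀ v v' : List ℕ, (∀ k ∈ v, k < 7) → (∀ k ∈ v', k < 7) → chk v v' = true →
    (v.map (letter a b c x y w z)).prod = (v'.map (letter a b c x y w z)).prod
  u_def : u = b * a * b * c * (b * a * b * c)
  conj_u : ∀ s, s * s = 1 → s ≠ 1 → s ≠ z → ∃ k, k * s * k⁻¹ = u
  invol : ∀ k, k * u = u * k → k * k = 1 →
    (∃ i < 16, k = four z u c (b * c * b) i) ∨ (∃ i < 16, k = four z u a (b * a * b) i)
  inj₁ : ∀ i < 16, ∀ j < 16, four z u c (b * c * b) i = four z u c (b * c * b) j → i = j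
  inj₂ : ∀ i < 16, ∀ j < 16, four z u a (b * a * b) i = four z u a (b * a * b) j → i = j
  cent₁ : ∀ k, k * u = u * k → k * c = c * k → k * (b * c * b) = b * c * b * k →
    ∃ i < 16, k = four z u c (b * c * b) i
  cent₂ : ∀ k, k * u = u * k → k * a = a * k → k * (b * a * b) = b * a * b * k →
    ∃ i < 16, k = four z u a (b * a * b) i
  cent_rho : ∀ k, k * u = u * k → k * (y * b) = y * b * k →
    ∃ v, (v = 1 ∨ v = z ∨ v = u ∨ v = z * u) ∧ ∃ i < 3, k = v * (y * b) ^ i
  sylow : ∀ k, k * u = u * k → k ^ 3 = 1 → k ≠ 1 →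
    ∃ h, h * u = u * h ∧ (h * k * h⁻¹ = y * b ∨ h * k * h⁻¹ = (y * b)⁻¹)
  gen : Subgroup.closure {a, b, c, x, y, w} = ⊤


/-- the word of `u` -/
def wu : List ℕ := [1, 0, 1, 2, 1, 0, 1, 2]

/-- words of the elements of `A_1` -/
def w1 (i : ℕ) : List ℕ :=
  (if i.testBit 0 then [6] else []) ++ (if i.testBit 1 then wu else []) ++
    (if i.testBit 2 then [2] else []) ++ (if i.testBit 3 then [1, 2, 1] else [])

/-- words of the elements of `A_2` -/
def w2 (i : ℕ) : List ℕ :=
  (if i.testBit 0 then [6] else []) ++ (if i.testBit 1 then wu else []) ++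
    (if i.testBit 2 then [0] else []) ++ (if i.testBit 3 then [1, 0, 1] else [])

/-- action of a word on the letters `0, …, 7` -/
def actw (w : List ℕ) (j : ℕ) : ℕ := run (w.map ltab) (240 + j) - 240

theorem actw_cover {C : Type*} [Group C] {π : C →* alternatingGroup (Fin 8)} {L : ℕ → C}
    (hact : ∀ w : List ℕ, (∀ k ∈ w, k < 13) → ∀ i : Fin 8,
      240 + (((π (w.map L).prod : Perm (Fin 8)) i : Fin 8) : ℕ) = run (w.map ltab) (240 + (i : ℕ)))
    {w : List ℕ} (hw : ∀ k ∈ w, k < 13) (i : Fin 8) :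
    (((π (w.map L).prod : Perm (Fin 8)) i : Fin 8) : ℕ) = actw w i := by
  have := hact w hw i
  rw [actw]; omega

theorem w1_lt : ∀ i < 16, ∀ k ∈ w1 i, k < 13 := by decide
theorem w2_lt : ∀ i < 16, ∀ k ∈ w2 i, k < 13 := by decide
theorem w1_lt' : ∀ i < 16, ∀ k ∈ w1 i, k < 7 := by decide
theorem w2_lt' : ∀ i < 16, ∀ k ∈ w2 i, k < 7 := by decide

/-- value at `i` of the permutation commuting with `μ = (01)(23)(45)(67)` with images `p q r s` of
`0 2 4 6` -/
def F (p q r s i : ℕ) : ℕ :=
  match i with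
  | 0 => p
  | 1 => Nat.xor p 1
  | 2 => q
  | 3 => Nat.xor q 1
  | 4 => r
  | 5 => Nat.xor r 1
  | 6 => s
  | _ => Nat.xor s 1

theorem not_beq {i j : ℕ} : (Nat.beq i j).not = true ↔ i ≠ j := by
  rw [Bool.not_eq_true', ← Bool.not_eq_true, Nat.beq_eq]

/-- some number below a bound passes a test -/
def anyb : ℕ → (ℕ → Bool) → Bool
  | 0, _ => false
  | n + 1, f => (f n).or (anyb n f)

theorem anyb_iff {n : ℕ} {f : ℕ → Bool} : anyb n f = true ↔ ∃ i < n, f i = true := by
  induction n with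
  | zero => simp [anyb]
  | succ n ih =>
    rw [anyb, Bool.or_eq_true, ih]
    constructor
    · rintro (h | ⟨i, hi, h⟩)
      · exact ⟨n, Nat.lt_succ_self n, h⟩
      · exact ⟨i, Nat.lt_succ_of_lt hi, h⟩
    · rintro ⟨i, hi, h⟩
      rcases Nat.lt_succ_iff_lt_or_eq.1 hi with h1 | h1
      · exact Or.inr ⟨i, h1, h⟩
      · exact Or.inl (h1 ▸ h)

/-- the test for the involutions commuting with `u` -/
def tInv (f : ℕ → ℕ) : Bool :=
  (allb 8 fun i => (Nat.beq (f (f i)) i).and (Nat.beq (f i) i).not).and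
    ((allb 8 fun i => Nat.beq (f i) (Nat.xor i 1)).or
      (allb 8 fun i => (Nat.beq (f i) (Nat.xor i 1)).not))

/-- `f` is the action of one of the elements of `A_1` or `A_2` -/
def tMem (f : ℕ → ℕ) : Bool :=
  (anyb 16 fun l => allb 8 fun i => Nat.beq (f i) (actw (w1 l) i)).or
    (anyb 16 fun l => allb 8 fun i => Nat.beq (f i) (actw (w2 l) i))

theorem chk_inv : (allb 8 fun p => allb 8 fun q => allb 8 fun r => allb 8 fun s =>
    (tInv (F p q r s)).not.or (tMem (F p q r s))) = true := by decide +kernel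

/-- the action of `ρ` -/
def ρ8 (i : ℕ) : ℕ := actw [4, 1] i

/-- the test for the elements of order three commuting with `u` -/
def tThree (f : ℕ → ℕ) : Bool :=
  (allb 8 fun i => Nat.beq (f (f (f i))) i).and (anyb 8 fun i => (Nat.beq (f i) i).not)

/-- `S` is a bijection with `S ρ = f S` -/
def tConj (f S : ℕ → ℕ) : Bool :=
  (allb 8 fun i => allb 8 fun j => (Nat.beq i j).or (Nat.beq (S i) (S j)).not).and
    (allb 8 fun i => (Nat.beq (S (ρ8 i)) (f (S i))).and (Nat.blt (S i) 8))

theorem chk_three : (allb 8 fun p => allb 8 fun q => allb 8 fun r => allb 8 fun s =>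
    (tThree (F p q r s)).not.or (anyb 8 fun p' => anyb 8 fun s' =>
      tConj (F p q r s) (F p' (F p q r s p') (F p q r s (F p q r s p')) s'))) = true := by
  decide +kernel

theorem act_u : ∀ i < 8, actw wu i = Nat.xor i 1 := by decide +kernel

theorem act_reg1 : ∀ j < 8, ∃ l < 8, actw (w1 (2 * l)) 0 = j := by decide +kernel
theorem act_reg2 : ∀ j < 8, ∃ l < 8, actw (w2 (2 * l)) 0 = j := by decide +kernel
theorem act_com1 : ∀ p < 8, ∃ i < 8, ∀ l < 8,
    actw (w1 (2 * l)) p = actw (w1 (2 * i)) (actw (w1 (2 * l)) 0) := by decide +kernel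
theorem act_com2 : ∀ p < 8, ∃ i < 8, ∀ l < 8,
    actw (w2 (2 * l)) p = actw (w2 (2 * i)) (actw (w2 (2 * l)) 0) := by decide +kernel

theorem chk_w1z : ∀ i < 16, ∀ j < 16, actw (w1 i) 0 = actw (w1 j) 0 →
    i = j ∨ chk (w1 i) (6 :: w1 j) = true := by decide +kernel
theorem chk_w2z : ∀ i < 16, ∀ j < 16, actw (w2 i) 0 = actw (w2 j) 0 →
    i = j ∨ chk (w2 i) (6 :: w2 j) = true := by decide +kernel

theorem chk_w1zz : ∀ i < 8, chk (w1 (2 * i) ++ [6]) (w1 (2 * i + 1)) = true := by decide +kernel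
theorem chk_w2zz : ∀ i < 8, chk (w2 (2 * i) ++ [6]) (w2 (2 * i + 1)) = true := by decide +kernel
theorem chk_w1zz' : ∀ i < 16, ∃ j < 16, chk (w1 i ++ [6]) (w1 j) = true := by decide +kernel
theorem chk_w2zz' : ∀ i < 16, ∃ j < 16, chk (w2 i ++ [6]) (w2 j) = true := by decide +kernel

/-- the words of the generators `7, …, 12` in `a b c x y w` -/
def gw : ℕ → List ℕ
  | 0 => [1, 0, 3, 5, 2, 1]
  | 1 => [2, 3, 0, 5]
  | 2 => [0, 4, 3, 5, 2, 4]
  | 3 => [4, 1, 2, 3, 0, 1, 5, 4]
  | 4 => [0, 1, 0, 4, 3, 5, 2, 4, 1, 2]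
  | _ => [1, 2, 4, 3, 0, 5, 4, 1]

theorem gw_lt : ∀ k < 6, ∀ l ∈ gw k, l < 6 := by decide

theorem chk_gw : ∀ k < 6, chk [7 + k] (gw k) = true := by decide +kernel

theorem chk_gz : chk [6] [0, 2, 0, 2] = true := by decide +kernel

theorem rho_facts : (∀ i < 8, ρ8 (ρ8 (ρ8 i)) = i) ∧ (∀ i < 8, ρ8 i < 8) := by decide +kernel


theorem map_four {G H : Type*} [Group G] [Group H] (f : G →* H) (e₀ e₁ e₂ e₃ : G) (i : ℕ) :
    f (four e₀ e₁ e₂ e₃ i) = four (f e₀) (f e₁) (f e₂) (f e₃) i := by
  simp only [four, map_mul, apply_ite f, map_one]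

theorem four_comm {G : Type*} [Group G] {e₀ e₁ e₂ e₃ k : G} (h₀ : k * e₀ = e₀ * k)
    (h₁ : k * e₁ = e₁ * k) (h₂ : k * e₂ = e₂ * k) (h₃ : k * e₃ = e₃ * k) (i : ℕ) :
    k * four e₀ e₁ e₂ e₃ i = four e₀ e₁ e₂ e₃ i * k := by
  have key : ∀ (e : G) (p : Bool), Commute k e → Commute k (if p then e else 1) := by
    intro e p h
    cases p
    · simp
    · simpa using h
  exact (((key _ _ h₀).mul_right (key _ _ h₁)).mul_right (key _ _ h₂)).mul_right (key _ _ h₃)

section proof

variable {C : Type*} [Group C] {π : C →* alternatingGroup (Fin 8)} {z : C}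

theorem prod_w1 (L : ℕ → C) (i : ℕ) : ((w1 i).map L).prod =
    four (L 6) (L 1 * L 0 * L 1 * L 2 * (L 1 * L 0 * L 1 * L 2)) (L 2) (L 1 * L 2 * L 1) i := by
  simp only [w1, four, List.map_append, List.prod_append, apply_ite (List.map L),
    apply_ite List.prod, wu, List.map_cons, List.map_nil, List.prod_cons, List.prod_nil, mul_one,
    mul_assoc]

theorem prod_w2 (L : ℕ → C) (i : ℕ) : ((w2 i).map L).prod =
    four (L 6) (L 1 * L 0 * L 1 * L 2 * (L 1 * L 0 * L 1 * L 2)) (L 0) (L 1 * L 0 * L 1) i := by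
  simp only [w2, four, List.map_append, List.prod_append, apply_ite (List.map L),
    apply_ite List.prod, wu, List.map_cons, List.map_nil, List.prod_cons, List.prod_nil, mul_one,
    mul_assoc]

/-- action of the element `k` on the numbers `0, …, 7` -/
def pk (π : C →* alternatingGroup (Fin 8)) (k : C) (i : ℕ) : ℕ :=
  if h : i < 8 then (((π k : Perm (Fin 8)) ⟨i, h⟩ : Fin 8) : ℕ) else i

theorem pk_lt (k : C) {i : ℕ} (hi : i < 8) : pk π k i < 8 := by
  rw [pk, dif_pos hi]; exact Fin.is_lt _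

theorem pk_fin (k : C) (i : Fin 8) : pk π k i = (((π k : Perm (Fin 8)) i : Fin 8) : ℕ) := by
  rw [pk, dif_pos i.2]

theorem pk_mul (k k' : C) {i : ℕ} (hi : i < 8) : pk π (k * k') i = pk π k (pk π k' i) := by
  have h1 := pk_fin (π := π) (k * k') ⟨i, hi⟩
  have h2 := pk_fin (π := π) k' ⟨i, hi⟩
  have h3 := pk_fin (π := π) k ((π k' : Perm (Fin 8)) ⟨i, hi⟩)
  rw [map_mul, Subgroup.coe_mul, Perm.mul_apply] at h1
  change pk π (k * k') i = _ at h1
  change pk π k' i = _ at h2
  rw [h1, h2, h3]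

theorem pk_one {i : ℕ} : pk π (1 : C) i = i := by
  rw [pk]
  split_ifs with h
  · rw [map_one]; rfl
  · rfl

theorem pk_ext {k k' : C} (h : ∀ i < 8, pk π k i = pk π k' i) : π k = π k' := by
  refine Subtype.ext (Equiv.ext fun i => Fin.ext ?_)
  rw [← pk_fin, ← pk_fin]
  exact h i i.2

theorem pk_inj {k : C} {i j : ℕ} (hi : i < 8) (hj : j < 8) (h : pk π k i = pk π k j) : i = j := by
  rw [pk, pk, dif_pos hi, dif_pos hj] at h
  have := (π k : Perm (Fin 8)).injective (Fin.ext h)
  exact congrArg Fin.val this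

/-- bundled data of the letters -/
structure LData (π : C →* alternatingGroup (Fin 8)) (z : C) (L : ℕ → C) : Prop where
  cover : IsCover π z
  z6 : L 6 = z
  eq : ∀ w w' : List ℕ, (∀ k ∈ w, k < 13) → (∀ k ∈ w', k < 13) → chk w w' = true →
    (w.map L).prod = (w'.map L).prod
  act' : ∀ w : List ℕ, (∀ k ∈ w, k < 13) → ∀ i : Fin 8,
    240 + (((π (w.map L).prod : Perm (Fin 8)) i : Fin 8) : ℕ) =
      run (w.map ltab) (240 + (i : ℕ))
  cy : ∀ k (hk : k < 6), π (L (7 + k)) = cy 6 k hk

theorem exists_ldata (h : IsCover π z) : ∃ L, LData π z L := by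
  obtain ⟨L, h1, h2, h3, h4⟩ := exists_letters h
  exact ⟨L, h, h1, h2, h3, h4⟩

namespace LData

variable {L : ℕ → C} (D : LData π z L)

include D

theorem act {w : List ℕ} (hw : ∀ k ∈ w, k < 13) {i : ℕ} (hi : i < 8) :
    pk π (w.map L).prod i = actw w i := by
  have h1 := D.act' w hw ⟨i, hi⟩
  have h2 := pk_fin (π := π) (w.map L).prod ⟨i, hi⟩
  change pk π (w.map L).prod i = _ at h2
  rw [h2, actw]
  change _ = run (w.map ltab) (240 + i) at h1
  omega

theorem eq_or {k : C} {w : List ℕ} (hw : ∀ k ∈ w, k < 13)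
    (h : ∀ i < 8, pk π k i = actw w i) :
    k = (w.map L).prod ∨ k = ((w ++ [6]).map L).prod := by
  have h1 : π k = π (w.map L).prod := pk_ext fun i hi => by rw [h i hi, D.act hw hi]
  rcases D.cover.eq_or_of_map_eq h1 with h2 | h2
  · exact Or.inl h2
  · right
    rw [h2, List.map_append, List.prod_append, List.map_singleton, List.prod_singleton, D.z6]

omit D in
/-- the involution `u` -/
theorem prod_wu : ((wu).map L).prod = L 1 * L 0 * L 1 * L 2 * (L 1 * L 0 * L 1 * L 2) := by
  simp only [wu, List.map_cons, List.map_nil, List.prod_cons, List.prod_nil, mul_one, mul_assoc]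

theorem pk_comm_u {k : C} (hk : k * (wu.map L).prod = (wu.map L).prod * k) {i : ℕ} (hi : i < 8) :
    pk π k (Nat.xor i 1) = Nat.xor (pk π k i) 1 := by
  have h1 : pk π (k * (wu.map L).prod) i = pk π ((wu.map L).prod * k) i := by rw [hk]
  rw [pk_mul _ _ hi, pk_mul _ _ hi, D.act (by decide) hi, D.act (by decide) (pk_lt k hi),
    act_u i hi, act_u _ (pk_lt k hi)] at h1
  exact h1

theorem pk_eq_F {k : C} (hk : k * (wu.map L).prod = (wu.map L).prod * k) {i : ℕ} (hi : i < 8) :
    pk π k i = F (pk π k 0) (pk π k 2) (pk π k 4) (pk π k 6) i := by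
  have h0 := D.pk_comm_u hk (i := 0) (by norm_num)
  have h2 := D.pk_comm_u hk (i := 2) (by norm_num)
  have h4 := D.pk_comm_u hk (i := 4) (by norm_num)
  have h6 := D.pk_comm_u hk (i := 6) (by norm_num)
  interval_cases i
  · rfl
  · exact h0
  · rfl
  · exact h2
  · rfl
  · exact h4
  · rfl
  · exact h6

/-- nontrivial involutions other than `z` move all letters -/
theorem pk_ne {k : C} (hk : k * k = 1) (h1 : k ≠ 1) (hz : k ≠ z) {i : ℕ} (hi : i < 8) :
    pk π k i ≠ i := by
  have h2 := ((Cfsg.Agent.SporRec.TwoAn.ofIsCover (by norm_num) D.cover).sq_eq_one_iff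
    (g := k)).1 hk
  obtain ⟨h3, m, hm⟩ := h2
  change (π k : Perm (Fin 8)).support.card = 8 * m at hm
  have h4 : (π k : Perm (Fin 8)).support.card ≤ 8 := by
    have := Finset.card_le_univ (π k : Perm (Fin 8)).support
    simpa using this
  have h5 : m ≠ 0 := by
    rintro rfl
    rw [mul_zero, Finset.card_eq_zero, Perm.support_eq_empty_iff] at hm
    rcases (D.cover.ker k).1 (Subtype.ext hm) with h6 | h6
    · exact h1 h6
    · exact hz h6
  have h6 : (π k : Perm (Fin 8)).support = Finset.univ := by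
    rw [← Finset.card_eq_iff_eq_univ, Fintype.card_fin]
    omega
  have h7 : (⟨i, hi⟩ : Fin 8) ∈ (π k : Perm (Fin 8)).support := by rw [h6]; exact Finset.mem_univ _
  rw [Perm.mem_support] at h7
  intro h8
  apply h7
  rw [pk, dif_pos hi] at h8
  exact Fin.ext h8

theorem invol {k : C} (hk : k * (wu.map L).prod = (wu.map L).prod * k) (hk2 : k * k = 1) :
    (∃ i < 16, k = ((w1 i).map L).prod) ∨ (∃ i < 16, k = ((w2 i).map L).prod) := by
  by_cases h1 : k = 1
  · left
    exact ⟨0, by norm_num, h1⟩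
  by_cases hz : k = z
  · left
    refine ⟨1, by norm_num, ?_⟩
    rw [hz, ← D.z6]
    change L 6 = L 6 * 1
    rw [mul_one]
  have hfp : ∀ i < 8, pk π k i ≠ i := fun i hi => D.pk_ne hk2 h1 hz hi
  set u := (wu.map L).prod with hu
  have huu : u * u = 1 := by
    have := D.eq (wu ++ wu) [] (by decide) (by decide) (by decide +kernel)
    rwa [List.map_append, List.prod_append] at this
  have hku : (k * u) * (k * u) = 1 := by
    calc (k * u) * (k * u) = k * (u * k) * u := by group
      _ = (k * k) * (u * u) := by rw [← hk]; group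
      _ = 1 := by rw [hk2, huu, mul_one]
  set f := F (pk π k 0) (pk π k 2) (pk π k 4) (pk π k 6) with hf
  have hF : ∀ i < 8, f i = pk π k i := fun i hi => (D.pk_eq_F hk hi).symm
  have hlt : ∀ i < 8, pk π k i < 8 := fun i hi => pk_lt k hi
  have hT : tInv f = true := by
    rw [tInv, Bool.and_eq_true]
    constructor
    · rw [allb_iff]
      intro i hi
      rw [Bool.and_eq_true, Nat.beq_eq, hF i hi, hF _ (hlt i hi), ← pk_mul _ _ hi, hk2, pk_one]
      refine ⟨rfl, ?_⟩
      rw [not_beq]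
      exact hfp i hi
    · rw [Bool.or_eq_true]
      by_cases h2 : π (k * u) = 1
      · left
        rw [allb_iff]
        intro i hi
        rw [Nat.beq_eq, hF i hi]
        have h3 : π k = π u := by
          have h4 : π u * π u = 1 := by rw [← map_mul, huu, map_one]
          rw [map_mul, mul_eq_one_iff_eq_inv] at h2
          rw [h2, inv_eq_of_mul_eq_one_left h4]
        have h5 : pk π k i = pk π u i := by simp only [pk, h3]
        rw [h5, hu, D.act (by decide) hi, act_u i hi]
      · right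
        rw [allb_iff]
        intro i hi
        rw [not_beq, hF i hi]
        intro h3
        have hx : i.xor 1 < 8 := by
          interval_cases i <;> decide
        refine D.pk_ne hku ?_ ?_ hx ?_
        · intro h4; apply h2; rw [h4, map_one]
        · intro h4; apply h2; rw [h4, D.cover.map_z]
        · rw [pk_mul _ _ hx, hu, D.act (by decide) hx, act_u _ hx]
          have : (i.xor 1).xor 1 = i := by interval_cases i <;> rfl
          rw [this, h3]
  have h3 := chk_inv
  rw [allb_iff] at h3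
  have h3 := h3 _ (hlt 0 (by norm_num))
  rw [allb_iff] at h3
  have h3 := h3 _ (hlt 2 (by norm_num))
  rw [allb_iff] at h3
  have h3 := h3 _ (hlt 4 (by norm_num))
  rw [allb_iff] at h3
  have h3 := h3 _ (hlt 6 (by norm_num))
  rw [← hf, hT, Bool.not_true, Bool.false_or, tMem, Bool.or_eq_true, anyb_iff, anyb_iff] at h3
  rcases h3 with ⟨l, hl, h4⟩ | ⟨l, hl, h4⟩
  · left
    rw [allb_iff] at h4
    rcases D.eq_or (k := k) (w1_lt l hl) (fun i hi => by
      have := h4 i hi
      rwa [Nat.beq_eq, hF i hi] at this) with h5 | h5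
    · exact ⟨l, hl, h5⟩
    · obtain ⟨j, hj, h6⟩ := chk_w1zz' l hl
      refine ⟨j, hj, ?_⟩
      rw [h5]
      exact D.eq _ _ (by
        intro m hm
        rcases List.mem_append.1 hm with h | h
        · exact w1_lt l hl m h
        · rw [List.mem_singleton.1 h]; norm_num) (w1_lt j hj) h6
  · right
    rw [allb_iff] at h4
    rcases D.eq_or (k := k) (w2_lt l hl) (fun i hi => by
      have := h4 i hi
      rwa [Nat.beq_eq, hF i hi] at this) with h5 | h5
    · exact ⟨l, hl, h5⟩
    · obtain ⟨j, hj, h6⟩ := chk_w2zz' l hl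
      refine ⟨j, hj, ?_⟩
      rw [h5]
      exact D.eq _ _ (by
        intro m hm
        rcases List.mem_append.1 hm with h | h
        · exact w2_lt l hl m h
        · rw [List.mem_singleton.1 h]; norm_num) (w2_lt j hj) h6

/-- an element commuting with the family `fam` regular on the letters belongs to it -/
theorem cent_fam {fam : ℕ → List ℕ} (hlt : ∀ i < 16, ∀ k ∈ fam i, k < 13)
    (hreg : ∀ j < 8, ∃ l < 8, actw (fam (2 * l)) 0 = j)
    (hcom : ∀ p < 8, ∃ i < 8, ∀ l < 8,
      actw (fam (2 * l)) p = actw (fam (2 * i)) (actw (fam (2 * l)) 0))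
    (hz : ∀ i < 16, ∃ j < 16, chk (fam i ++ [6]) (fam j) = true) {k : C}
    (hk : ∀ l < 16, k * ((fam l).map L).prod = ((fam l).map L).prod * k) :
    ∃ i < 16, k = ((fam i).map L).prod := by
  have h0 : pk π k 0 < 8 := pk_lt k (by norm_num)
  obtain ⟨i, hi, h1⟩ := hcom _ h0
  have h2 : ∀ j < 8, pk π k j = actw (fam (2 * i)) j := by
    intro j hj
    obtain ⟨l, hl, rfl⟩ := hreg j hj
    have h3 : pk π (k * ((fam (2 * l)).map L).prod) 0 = pk π (((fam (2 * l)).map L).prod * k) 0 := by
      rw [hk (2 * l) (by omega)]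
    rw [pk_mul _ _ (by norm_num), pk_mul _ _ (by norm_num),
      D.act (hlt _ (by omega)) (by norm_num), D.act (hlt _ (by omega)) h0] at h3
    rw [h3]
    exact h1 l hl
  rcases D.eq_or (k := k) (hlt (2 * i) (by omega)) h2 with h5 | h5
  · exact ⟨2 * i, by omega, h5⟩
  · obtain ⟨j, hj, h6⟩ := hz (2 * i) (by omega)
    refine ⟨j, hj, ?_⟩
    rw [h5]
    exact D.eq _ _ (by
      intro m hm
      rcases List.mem_append.1 hm with h | h
      · exact hlt _ (by omega) m h
      · rw [List.mem_singleton.1 h]; norm_num) (hlt j hj) h6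

theorem inj_fam {fam : ℕ → List ℕ} (hlt : ∀ i < 16, ∀ k ∈ fam i, k < 13)
    (hz : ∀ i < 16, ∀ j < 16, actw (fam i) 0 = actw (fam j) 0 →
      i = j ∨ chk (fam i) (6 :: fam j) = true) {i j : ℕ} (hi : i < 16) (hj : j < 16)
    (h : ((fam i).map L).prod = ((fam j).map L).prod) : i = j := by
  have h1 : actw (fam i) 0 = actw (fam j) 0 := by
    rw [← D.act (hlt i hi) (by norm_num), ← D.act (hlt j hj) (by norm_num), h]
  rcases hz i hi j hj h1 with h2 | h2
  · exact h2
  · exfalso
    have h3 := D.eq _ _ (hlt i hi) (by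
      intro m hm
      rcases List.mem_cons.1 hm with h | h
      · rw [h]; norm_num
      · exact hlt j hj m h) h2
    rw [List.map_cons, List.prod_cons, D.z6, h, eq_comm, mul_eq_right] at h3
    exact D.cover.z_ne h3

theorem sq {k : ℕ} (hk : k < 7) : L k * L k = 1 := by
  have : ∀ k < 7, chk [k, k] [] = true := by decide +kernel
  have h1 := D.eq [k, k] [] (by
    intro m hm
    simp only [List.mem_cons, List.not_mem_nil, or_false, or_self] at hm
    omega) (by simp) (this k hk)
  simpa using h1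

theorem bu_u : L 1 * (wu.map L).prod * L 1 = (wu.map L).prod * z := by
  have h1 := D.eq ([1] ++ wu ++ [1]) (wu ++ [6]) (by decide) (by decide) (by decide +kernel)
  simpa only [List.map_append, List.prod_append, List.map_cons, List.map_nil, List.prod_cons,
    List.prod_nil, mul_one, D.z6] using h1

theorem conj_or {k s : C} (h : π (k * s * k⁻¹) = π (wu.map L).prod) :
    ∃ k', k' * s * k'⁻¹ = (wu.map L).prod := by
  rcases D.cover.eq_or_of_map_eq h with h1 | h1
  · exact ⟨k, h1⟩
  · refine ⟨L 1 * k, ?_⟩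
    have hb := D.sq (k := 1) (by norm_num)
    have hbi : (L 1)⁻¹ = L 1 := inv_eq_of_mul_eq_one_left hb
    calc L 1 * k * s * (L 1 * k)⁻¹ = L 1 * (k * s * k⁻¹) * L 1 := by rw [mul_inv_rev, hbi]; group
      _ = L 1 * (wu.map L).prod * L 1 * z := by
        rw [h1]
        calc L 1 * ((wu.map L).prod * z) * L 1 = L 1 * (wu.map L).prod * (z * L 1) := by group
          _ = L 1 * (wu.map L).prod * L 1 * z := by rw [← D.cover.z_comm]; group
      _ = (wu.map L).prod := by rw [D.bu_u, mul_assoc, D.cover.z_mul, mul_one]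

theorem cycleType_eq {k : C} (hk : k * k = 1) (h1 : k ≠ 1) (hz : k ≠ z) :
    (π k : Perm (Fin 8)).cycleType = Multiset.replicate 4 2 := by
  have hne : (π k : Perm (Fin 8)) ≠ 1 := by
    intro h
    have h2 := DFunLike.congr_fun h (⟨0, by norm_num⟩ : Fin 8)
    have h3 := D.pk_ne hk h1 hz (i := 0) (by norm_num)
    apply h3
    rw [pk, dif_pos (by norm_num), h2]
    rfl
  have h2 : (π k : Perm (Fin 8)) ^ 2 = 1 := by
    rw [pow_two, ← Subgroup.coe_mul, ← map_mul, hk, map_one]; rfl
  have ho : orderOf (π k : Perm (Fin 8)) = 2 := orderOf_eq_prime h2 hne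
  obtain ⟨n, hn⟩ := Perm.cycleType_prime_order (σ := (π k : Perm (Fin 8))) (by rw [ho]; norm_num)
  have hs := Perm.sum_cycleType (π k : Perm (Fin 8))
  have hu : (π k : Perm (Fin 8)).support = Finset.univ := by
    rw [Finset.eq_univ_iff_forall]
    intro i
    rw [Perm.mem_support]
    intro h
    exact D.pk_ne hk h1 hz i.2 (by rw [pk_fin, h])
  rw [hn, Multiset.sum_replicate, hu, Finset.card_univ, Fintype.card_fin, ho, smul_eq_mul] at hs
  have : n = 3 := by omega
  rw [hn, this, ho]

theorem u_ne : (wu.map L).prod ≠ 1 ∧ (wu.map L).prod ≠ z := by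
  have h0 := D.act (w := wu) (by decide) (i := 0) (by norm_num)
  rw [act_u 0 (by norm_num)] at h0
  constructor
  · intro h
    rw [h, pk_one] at h0
    revert h0; decide
  · intro h
    rw [h, pk, dif_pos (by norm_num), D.cover.map_z] at h0
    revert h0; decide

theorem u_sq : (wu.map L).prod * (wu.map L).prod = 1 := by
  have := D.eq (wu ++ wu) [] (by decide) (by decide) (by decide +kernel)
  rwa [List.map_append, List.prod_append] at this

theorem conj_u {s : C} (hs : s * s = 1) (h1 : s ≠ 1) (hz : s ≠ z) :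
    ∃ k, k * s * k⁻¹ = (wu.map L).prod := by
  have e1 := D.cycleType_eq hs h1 hz
  have e2 := D.cycleType_eq D.u_sq D.u_ne.1 D.u_ne.2
  obtain ⟨g, hg⟩ := isConj_iff.1 (Perm.isConj_iff_cycleType_eq.2 (e1.trans e2.symm))
  set μ : Perm (Fin 8) := (π (wu.map L).prod : Perm (Fin 8)) with hμ
  have hμi : ∀ i : Fin 8, ((μ i : Fin 8) : ℕ) = Nat.xor i 1 := by
    intro i
    rw [hμ, ← pk_fin, D.act (by decide) i.2, act_u _ i.2]
  have hsw : swap (0 : Fin 8) 1 * μ * (swap (0 : Fin 8) 1)⁻¹ = μ := by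
    have h01 : swap (0 : Fin 8) 1 * μ = μ * swap (0 : Fin 8) 1 := by
      have hval : ∀ i : Fin 8, μ i = (![1, 0, 3, 2, 5, 4, 7, 6] : Fin 8 → Fin 8) i := by
        have hx : ∀ i : Fin 8, Nat.xor i 1 =
            (((![1, 0, 3, 2, 5, 4, 7, 6] : Fin 8 → Fin 8) i : Fin 8) : ℕ) := by decide
        exact fun i => Fin.ext ((hμi i).trans (hx i))
      refine Equiv.ext fun i => ?_
      rw [Perm.mul_apply, Perm.mul_apply, hval, hval]
      revert i
      decide
    rw [h01, mul_inv_cancel_right]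
  obtain ⟨g', hg', hev⟩ : ∃ g' : Perm (Fin 8), g' * (π s : Perm (Fin 8)) * g'⁻¹ = μ ∧
      g' ∈ alternatingGroup (Fin 8) := by
    rcases Int.units_eq_one_or (Perm.sign g) with h | h
    · exact ⟨g, hg, Perm.mem_alternatingGroup.2 h⟩
    · refine ⟨swap (0 : Fin 8) 1 * g, ?_, ?_⟩
      · rw [mul_inv_rev]
        calc swap (0 : Fin 8) 1 * g * (π s : Perm (Fin 8)) * (g⁻¹ * (swap (0 : Fin 8) 1)⁻¹) =
            swap (0 : Fin 8) 1 * (g * (π s : Perm (Fin 8)) * g⁻¹) * (swap (0 : Fin 8) 1)⁻¹ := by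
              group
          _ = μ := by rw [hg, hsw]
      · rw [Perm.mem_alternatingGroup, map_mul, h, Perm.sign_swap (by decide)]
        norm_num
  obtain ⟨k, hk⟩ := D.cover.surj ⟨g', hev⟩
  refine D.conj_or (k := k) ?_
  apply Subtype.ext
  rw [map_mul, map_mul, map_inv, hk]
  exact hg'

theorem mem_closure : Subgroup.closure {L 0, L 1, L 2, L 3, L 4, L 5} = ⊤ := by
  set S := Subgroup.closure {L 0, L 1, L 2, L 3, L 4, L 5} with hS
  have h6 : ∀ k < 6, L k ∈ S := by
    intro k hk
    apply Subgroup.subset_closure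
    interval_cases k <;> simp
  have hw : ∀ w : List ℕ, (∀ k ∈ w, k < 6) → (w.map L).prod ∈ S := by
    intro w hw
    refine Subgroup.list_prod_mem _ fun g hg => ?_
    obtain ⟨k, hk, rfl⟩ := List.mem_map.1 hg
    exact h6 k (hw k hk)
  have hzS : z ∈ S := by
    have h1 := D.eq _ _ (by decide) (by decide) chk_gz
    rw [List.map_singleton, List.prod_singleton, D.z6] at h1
    rw [h1]
    exact hw _ (by decide)
  have hX : ∀ k < 6, L (7 + k) ∈ S := by
    intro k hk
    have h1 := D.eq [7 + k] (gw k) (by simp; omega)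
      (fun l hl => (gw_lt k hk l hl).trans (by norm_num)) (chk_gw k hk)
    rw [List.map_singleton, List.prod_singleton] at h1
    rw [h1]
    exact hw _ (gw_lt k hk)
  let f : C →* Perm (Fin 8) := (alternatingGroup (Fin 8)).subtype.comp π
  have hle : alternatingGroup (Fin (6 + 2)) ≤ S.map f := by
    rw [← gen_cyc 6 (by norm_num), gen_def, Subgroup.closure_le]
    rintro _ ⟨i, hi, rfl⟩
    exact ⟨L (7 + i), hX i hi, congrArg Subtype.val (D.cy i hi)⟩
  rw [Subgroup.eq_top_iff']
  intro g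
  obtain ⟨s, hs, h1⟩ := hle (π g).2
  rcases D.cover.eq_or_of_map_eq (x := g) (y := s) (Subtype.ext h1.symm) with h2 | h2
  · rw [h2]; exact hs
  · rw [h2]; exact mul_mem hs hzS

/-- the element `ρ` -/
theorem pk_rho {i : ℕ} (hi : i < 8) : pk π (L 4 * L 1) i = ρ8 i := by
  have h := D.act (w := [4, 1]) (by decide) hi
  rw [List.map_cons, List.map_singleton, List.prod_cons, List.prod_singleton] at h
  exact h

theorem rho_cube : (L 4 * L 1) ^ 3 = 1 := by
  have h1 := D.eq ([4, 1] ++ [4, 1] ++ [4, 1]) [] (by decide) (by decide) (by decide +kernel)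
  simp only [List.map_append, List.prod_append, List.map_cons, List.map_nil, List.prod_cons,
    List.prod_nil, mul_one] at h1
  rw [pow_succ, pow_two, h1]

theorem rho_inv : (L 4 * L 1)⁻¹ = L 1 * L 4 := by
  rw [mul_inv_rev, inv_eq_of_mul_eq_one_left (D.sq (k := 1) (by norm_num)),
    inv_eq_of_mul_eq_one_left (D.sq (k := 4) (by norm_num))]

theorem cent_rho {k : C} (hk : k * (wu.map L).prod = (wu.map L).prod * k)
    (hr : k * (L 4 * L 1) = L 4 * L 1 * k) :
    ∃ e < 2, ∃ i < 2, ∃ j < 3, k = (L 6) ^ e * ((wu.map L).prod) ^ i * (L 4 * L 1) ^ j := by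
  have huρ : (wu.map L).prod * (L 4 * L 1) = L 4 * L 1 * (wu.map L).prod := by
    have h1 := D.eq (wu ++ [4, 1]) ([4, 1] ++ wu) (by decide) (by decide) (by decide +kernel)
    simpa only [List.map_append, List.prod_append, List.map_cons, List.map_nil, List.prod_cons,
      List.prod_nil, mul_one] using h1
  have hkr : ∀ i < 8, pk π k (ρ8 i) = ρ8 (pk π k i) := by
    intro i hi
    rw [← D.pk_rho hi, ← pk_mul _ _ hi, hr, pk_mul _ _ hi, D.pk_rho (pk_lt k hi)]
  have hp := pk_lt (π := π) k (i := 0) (by norm_num)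
  have hp2 : ρ8 (pk π k 0) ≠ pk π k 0 := by
    intro h
    rw [← hkr 0 (by norm_num)] at h
    have := pk_inj (rho_facts.2 0 (by norm_num)) (by norm_num) h
    revert this; decide +kernel
  have hex : ∀ p < 8, ρ8 p ≠ p → ∃ i < 2, ∃ j < 3,
      actw ((if i = 1 then wu else []) ++ (List.replicate j [4, 1]).flatten) 0 = p := by
    decide +kernel
  obtain ⟨i, hi, j, hj, hij⟩ := hex _ hp hp2
  have hwl : ∀ i < 2, ∀ j < 3, ∀ l ∈ ((if i = 1 then wu else []) ++
      (List.replicate j [4, 1]).flatten), l < 13 := by decide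
  rw [← D.act (hwl i hi j hj) (by norm_num)] at hij
  have hE : ∀ i < 2, ∀ j < 3, (((if i = 1 then wu else []) ++
      (List.replicate j [4, 1]).flatten).map L).prod = ((wu.map L).prod) ^ i * (L 4 * L 1) ^ j := by
    intro i hi j hj
    interval_cases i <;> interval_cases j <;>
      simp [List.map_append, List.prod_append, pow_succ, mul_assoc]
  rw [hE i hi j hj] at hij
  set E := ((wu.map L).prod) ^ i * (L 4 * L 1) ^ j with hEdef
  have hEu : E * (wu.map L).prod = (wu.map L).prod * E := by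
    have h1 : Commute ((wu.map L).prod ^ i) (wu.map L).prod := (Commute.refl _).pow_left i
    have h2 : Commute ((L 4 * L 1) ^ j) (wu.map L).prod :=
      (show Commute (L 4 * L 1) (wu.map L).prod from huρ.symm).pow_left j
    exact h1.mul_left h2
  have hEρ : E * (L 4 * L 1) = L 4 * L 1 * E := by
    have h1 : Commute ((wu.map L).prod ^ i) (L 4 * L 1) :=
      (show Commute (wu.map L).prod (L 4 * L 1) from huρ).pow_left i
    have h2 : Commute ((L 4 * L 1) ^ j) (L 4 * L 1) := (Commute.refl _).pow_left j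
    exact h1.mul_left h2
  -- `t = E⁻¹ k`
  obtain ⟨t, ht⟩ : ∃ t, t = E⁻¹ * k := ⟨_, rfl⟩
  have hkt : k = E * t := by rw [ht, mul_inv_cancel_left]
  have htu : t * (wu.map L).prod = (wu.map L).prod * t := by
    have h1 : Commute E⁻¹ (wu.map L).prod := (show Commute E _ from hEu).inv_left
    rw [ht]
    exact h1.mul_left hk
  have htρ : t * (L 4 * L 1) = L 4 * L 1 * t := by
    have h1 : Commute E⁻¹ (L 4 * L 1) := (show Commute E _ from hEρ).inv_left
    rw [ht]
    exact h1.mul_left hr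
  have ht0 : pk π t 0 = 0 := by
    have h1 : pk π E 0 = pk π E (pk π t 0) := by rw [hij, ← pk_mul _ _ (by norm_num), ← hkt]
    exact (pk_inj (by norm_num) (pk_lt t (by norm_num)) h1).symm
  have htr : ∀ i < 8, pk π t (ρ8 i) = ρ8 (pk π t i) := by
    intro i hi
    rw [← D.pk_rho hi, ← pk_mul _ _ hi, htρ, pk_mul _ _ hi, D.pk_rho (pk_lt t hi)]
  have r0 : ρ8 0 = 2 := by decide +kernel
  have r2 : ρ8 2 = 4 := by decide +kernel
  have ht2 : pk π t 2 = 2 := by
    have := htr 0 (by norm_num)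
    rwa [ht0, r0] at this
  have ht4 : pk π t 4 = 4 := by
    have := htr 2 (by norm_num)
    rwa [ht2, r2] at this
  have ht1 : pk π t 1 = 1 := by
    have := D.pk_comm_u htu (i := 0) (by norm_num)
    rw [ht0] at this; exact this
  have ht3 : pk π t 3 = 3 := by
    have := D.pk_comm_u htu (i := 2) (by norm_num)
    rw [ht2] at this; exact this
  have ht5 : pk π t 5 = 5 := by
    have := D.pk_comm_u htu (i := 4) (by norm_num)
    rw [ht4] at this; exact this
  have ht6 : pk π t 6 = 6 := by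
    by_contra h6
    have hl := pk_lt (π := π) t (i := 6) (by norm_num)
    have h7 : pk π t 6 = 7 := by
      have n0 : pk π t 6 ≠ 0 := fun h => by
        rw [← ht0] at h; exact absurd (pk_inj (by norm_num) (by norm_num) h) (by norm_num)
      have n1 : pk π t 6 ≠ 1 := fun h => by
        rw [← ht1] at h; exact absurd (pk_inj (by norm_num) (by norm_num) h) (by norm_num)
      have n2 : pk π t 6 ≠ 2 := fun h => by
        rw [← ht2] at h; exact absurd (pk_inj (by norm_num) (by norm_num) h) (by norm_num)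
      have n3 : pk π t 6 ≠ 3 := fun h => by
        rw [← ht3] at h; exact absurd (pk_inj (by norm_num) (by norm_num) h) (by norm_num)
      have n4 : pk π t 6 ≠ 4 := fun h => by
        rw [← ht4] at h; exact absurd (pk_inj (by norm_num) (by norm_num) h) (by norm_num)
      have n5 : pk π t 6 ≠ 5 := fun h => by
        rw [← ht5] at h; exact absurd (pk_inj (by norm_num) (by norm_num) h) (by norm_num)
      omega
    have h77 : pk π t 7 = 6 := by
      have := D.pk_comm_u htu (i := 6) (by norm_num)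
      rw [h7] at this; exact this
    have hsw : (π t : Perm (Fin 8)) = swap 6 7 := by
      refine Equiv.ext fun i => Fin.ext ?_
      rw [← pk_fin]
      fin_cases i
      · exact ht0
      · exact ht1
      · exact ht2
      · exact ht3
      · exact ht4
      · exact ht5
      · exact h7
      · exact h77
    have h8 := (π t).2
    rw [Perm.mem_alternatingGroup, hsw, Perm.sign_swap (by decide)] at h8
    exact absurd h8 (by decide)
  have ht7 : pk π t 7 = 7 := by
    have := D.pk_comm_u htu (i := 6) (by norm_num)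
    rw [ht6] at this; exact this
  have hπt : π t = 1 := by
    rw [← map_one π]
    refine pk_ext fun i hi => ?_
    rw [pk_one]
    interval_cases i
    · exact ht0
    · exact ht1
    · exact ht2
    · exact ht3
    · exact ht4
    · exact ht5
    · exact ht6
    · exact ht7
  rcases (D.cover.ker t).1 hπt with h | h
  · refine ⟨0, by norm_num, i, hi, j, hj, ?_⟩
    rw [hkt, h, mul_one, pow_zero, one_mul]
  · refine ⟨1, by norm_num, i, hi, j, hj, ?_⟩
    rw [hkt, h, pow_one, D.z6, D.cover.z_comm, mul_assoc]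

theorem sylow {k : C} (hk : k * (wu.map L).prod = (wu.map L).prod * k) (hk3 : k ^ 3 = 1)
    (h1 : k ≠ 1) : ∃ h, h * (wu.map L).prod = (wu.map L).prod * h ∧
      (h * k * h⁻¹ = L 4 * L 1 ∨ h * k * h⁻¹ = (L 4 * L 1)⁻¹) := by
  set f := F (pk π k 0) (pk π k 2) (pk π k 4) (pk π k 6) with hf
  have hF : ∀ i < 8, f i = pk π k i := fun i hi => (D.pk_eq_F hk hi).symm
  have hlt : ∀ i < 8, pk π k i < 8 := fun i hi => pk_lt k hi
  have hT : tThree f = true := by
    rw [tThree, Bool.and_eq_true]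
    constructor
    · rw [allb_iff]
      intro i hi
      rw [Nat.beq_eq, hF i hi, hF _ (hlt i hi), hF _ (hlt _ (hlt i hi)), ← pk_mul _ _ hi,
        ← pk_mul _ _ hi, show k * (k * k) = k ^ 3 by rw [pow_succ', pow_two], hk3, pk_one]
    · by_contra hcon
      have h2 : ∀ i < 8, pk π k i = i := by
        intro i hi
        by_contra h3
        apply hcon
        rw [anyb_iff]
        refine ⟨i, hi, ?_⟩
        rw [not_beq, hF i hi]
        exact h3
      have h3 : π k = 1 := by
        rw [← map_one π]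
        exact pk_ext fun i hi => by rw [h2 i hi, pk_one]
      rcases (D.cover.ker k).1 h3 with h4 | h4
      · exact h1 h4
      · rw [h4, D.cover.z_pow_three] at hk3
        exact D.cover.z_ne hk3
  have h3 := chk_three
  rw [allb_iff] at h3
  have h3 := h3 _ (hlt 0 (by norm_num))
  rw [allb_iff] at h3
  have h3 := h3 _ (hlt 2 (by norm_num))
  rw [allb_iff] at h3
  have h3 := h3 _ (hlt 4 (by norm_num))
  rw [allb_iff] at h3
  have h3 := h3 _ (hlt 6 (by norm_num))
  rw [← hf, hT, Bool.not_true, Bool.false_or, anyb_iff] at h3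
  obtain ⟨p', hp', h3⟩ := h3
  rw [anyb_iff] at h3
  obtain ⟨s', hs', h3⟩ := h3
  set S := F p' (f p') (f (f p')) s' with hS
  rw [tConj, Bool.and_eq_true, allb_iff, allb_iff] at h3
  obtain ⟨hinj, hSρ⟩ := h3
  have hSlt : ∀ i < 8, S i < 8 := by
    intro i hi
    have := hSρ i hi
    rw [Bool.and_eq_true, Nat.blt_eq] at this
    exact this.2
  have hSρ' : ∀ i < 8, S (ρ8 i) = f (S i) := by
    intro i hi
    have := hSρ i hi
    rw [Bool.and_eq_true, Nat.beq_eq] at this
    exact this.1
  have hSinj : Function.Injective (fun i : Fin 8 => (⟨S i, hSlt i i.2⟩ : Fin 8)) := by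
    intro i j hij
    have h4 := hinj i i.2
    rw [allb_iff] at h4
    have h5 := h4 j j.2
    rw [Bool.or_eq_true, Nat.beq_eq, not_beq] at h5
    rcases h5 with h5 | h5
    · exact Fin.ext h5
    · exact absurd (congrArg Fin.val hij) h5
  let σ : Perm (Fin 8) := Equiv.ofBijective _ (Finite.injective_iff_bijective.1 hSinj)
  have hσ : ∀ i : Fin 8, ((σ i : Fin 8) : ℕ) = S i := fun i => rfl
  have hSμ : ∀ i < 8, S (Nat.xor i 1) = Nat.xor (S i) 1 := by
    intro i hi
    have hxx : ∀ n < 8, Nat.xor (Nat.xor n 1) 1 = n := by decide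
    have e0 := hxx _ (hSlt 0 (by norm_num))
    have e2 := hxx _ (hSlt 2 (by norm_num))
    have e4 := hxx _ (hSlt 4 (by norm_num))
    have e6 := hxx _ (hSlt 6 (by norm_num))
    interval_cases i
    · rfl
    · exact e0.symm
    · rfl
    · exact e2.symm
    · rfl
    · exact e4.symm
    · rfl
    · exact e6.symm
  -- an even permutation
  obtain ⟨σ', hσρ, hσμ, hev⟩ : ∃ σ' : Perm (Fin 8),
      (∀ (i : ℕ) (hi : i < 8), ((σ' ⟨ρ8 i, rho_facts.2 i hi⟩ : Fin 8) : ℕ) = f (σ' ⟨i, hi⟩)) ∧
      (∀ (i : ℕ) (hi : i < 8) (hj : Nat.xor i 1 < 8),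
        ((σ' ⟨Nat.xor i 1, hj⟩ : Fin 8) : ℕ) = Nat.xor (σ' ⟨i, hi⟩) 1) ∧
      σ' ∈ alternatingGroup (Fin 8) := by
    rcases Int.units_eq_one_or (Perm.sign σ) with h | h
    · refine ⟨σ, fun i hi => ?_, fun i hi hj => ?_, Perm.mem_alternatingGroup.2 h⟩
      · rw [hσ, hσ]; exact hSρ' i hi
      · rw [hσ, hσ]; exact hSμ i hi
    · refine ⟨σ * swap 6 7, fun i hi => ?_, fun i hi hj => ?_, ?_⟩
      · rw [Perm.mul_apply, Perm.mul_apply, hσ, hσ]
        have h5 : ∀ (i : ℕ) (hi : i < 8),
            ((swap (6 : Fin 8) 7 ⟨ρ8 i, rho_facts.2 i hi⟩ : Fin 8) : ℕ) =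
              ρ8 ((swap (6 : Fin 8) 7 ⟨i, hi⟩ : Fin 8) : ℕ) := by decide +kernel
        rw [h5 i hi]
        exact hSρ' _ (Fin.is_lt _)
      · rw [Perm.mul_apply, Perm.mul_apply, hσ, hσ]
        have h5 : ∀ (i : ℕ) (hi : i < 8) (hj : Nat.xor i 1 < 8),
            ((swap (6 : Fin 8) 7 ⟨Nat.xor i 1, hj⟩ : Fin 8) : ℕ) =
              Nat.xor ((swap (6 : Fin 8) 7 ⟨i, hi⟩ : Fin 8) : ℕ) 1 := by
          have h6 : ∀ i : Fin 8, ((swap (6 : Fin 8) 7 i : Fin 8) : ℕ) =
              (fun n => if n = 6 then 7 else if n = 7 then 6 else n) (i : ℕ) := by decide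
          have h7 : ∀ i < 8, (fun n => if n = 6 then 7 else if n = 7 then 6 else n) (Nat.xor i 1) =
              Nat.xor ((fun n => if n = 6 then 7 else if n = 7 then 6 else n) i) 1 := by decide
          intro i hi hj
          rw [h6, h6]
          exact h7 i hi
        rw [h5 i hi hj]
        exact hSμ _ (Fin.is_lt _)
      · rw [Perm.mem_alternatingGroup, map_mul, h, Perm.sign_swap (by decide)]
        norm_num
  obtain ⟨h', hh'⟩ := D.cover.surj ⟨σ', hev⟩
  have hh : ∀ i (hi : i < 8), pk π h' i = ((σ' ⟨i, hi⟩ : Fin 8) : ℕ) := by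
    intro i hi
    rw [pk, dif_pos hi, hh']
  -- `h'⁻¹ k h' = ρ`
  have hc : h'⁻¹ * k * h' = L 4 * L 1 := by
    refine D.cover.eq_of_cube ?_ D.rho_cube ?_
    · have : (h'⁻¹ * k * h') ^ 3 = h'⁻¹ * k ^ 3 * h' := by
        simp only [pow_succ, pow_zero, one_mul]; group
      rw [this, hk3, mul_one, inv_mul_cancel]
    · have h5 : π (k * h') = π (h' * (L 4 * L 1)) := by
        refine pk_ext fun i hi => ?_
        rw [pk_mul _ _ hi, pk_mul _ _ hi, D.pk_rho hi, hh i hi, hh _ (rho_facts.2 i hi),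
          hσρ i hi, hF _ (Fin.is_lt _)]
      have h6 : h'⁻¹ * k * h' = h'⁻¹ * (k * h') := by group
      rw [h6, map_mul, h5, ← map_mul, inv_mul_cancel_left]
  have hcu : π (h'⁻¹ * (wu.map L).prod * h') = π (wu.map L).prod := by
    have h5 : π ((wu.map L).prod * h') = π (h' * (wu.map L).prod) := by
      refine pk_ext fun i hi => ?_
      have hx : Nat.xor i 1 < 8 := by interval_cases i <;> decide
      rw [pk_mul _ _ hi, pk_mul _ _ hi, D.act (by decide) hi, act_u i hi, hh i hi, hh _ hx,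
        D.act (by decide) (Fin.is_lt _), act_u _ (Fin.is_lt _), hσμ i hi hx]
    have h6 : h'⁻¹ * (wu.map L).prod * h' = h'⁻¹ * ((wu.map L).prod * h') := by group
    rw [h6, map_mul, h5, ← map_mul, inv_mul_cancel_left]
  rcases D.cover.eq_or_of_map_eq hcu with h5 | h5
  · refine ⟨h'⁻¹, ?_, Or.inl ?_⟩
    · calc h'⁻¹ * (wu.map L).prod = (h'⁻¹ * (wu.map L).prod * h') * h'⁻¹ := by
            rw [mul_inv_cancel_right]
        _ = (wu.map L).prod * h'⁻¹ := by rw [h5]
    · rw [inv_inv, hc]
  · have hb := D.sq (k := 1) (by norm_num)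
    have hbi : (L 1)⁻¹ = L 1 := inv_eq_of_mul_eq_one_left hb
    refine ⟨L 1 * h'⁻¹, ?_, Or.inr ?_⟩
    · have e1 : L 1 * (wu.map L).prod = (wu.map L).prod * z * L 1 := by
        calc L 1 * (wu.map L).prod = L 1 * (wu.map L).prod * L 1 * L 1 := by
              rw [mul_assoc _ (L 1) (L 1), hb, mul_one]
          _ = _ := by rw [D.bu_u]
      have e2 : h'⁻¹ * (wu.map L).prod = (wu.map L).prod * z * h'⁻¹ := by
        calc h'⁻¹ * (wu.map L).prod = (h'⁻¹ * (wu.map L).prod * h') * h'⁻¹ := by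
              rw [mul_inv_cancel_right]
          _ = _ := by rw [h5]
      calc L 1 * h'⁻¹ * (wu.map L).prod = L 1 * (wu.map L).prod * (z * h'⁻¹) := by
            rw [mul_assoc, e2]; group
        _ = (wu.map L).prod * (z * L 1 * z) * h'⁻¹ := by rw [e1]; group
        _ = (wu.map L).prod * (L 1 * h'⁻¹) := by
          rw [← D.cover.z_comm, mul_assoc (L 1), D.cover.z_mul, mul_one, mul_assoc]
    · rw [D.rho_inv, mul_inv_rev, inv_inv, hbi]
      calc L 1 * h'⁻¹ * k * (h' * L 1) = L 1 * (h'⁻¹ * k * h') * L 1 := by group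
        _ = L 1 * L 4 * (L 1 * L 1) := by rw [hc]; group
        _ = L 1 * L 4 := by rw [hb, mul_one]

theorem facts : Facts z (L 0) (L 1) (L 2) (L 3) (L 4) (L 5) ((wu.map L).prod) := by
  have hfam : (L 1 * L 0 * L 1 * L 2 * (L 1 * L 0 * L 1 * L 2)) = (wu.map L).prod :=
    prod_wu.symm
  have hL : ∀ v : List ℕ, (∀ k ∈ v, k < 7) →
      v.map (letter (L 0) (L 1) (L 2) (L 3) (L 4) (L 5) z) = v.map L := by
    intro v hv
    refine List.map_congr_left fun k hk => ?_
    have := hv k hk
    interval_cases k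
    · rfl
    · rfl
    · rfl
    · rfl
    · rfl
    · rfl
    · exact D.z6.symm
  have h1 : ∀ i, four z (wu.map L).prod (L 2) (L 1 * L 2 * L 1) i = ((w1 i).map L).prod := by
    intro i
    rw [prod_w1, hfam, D.z6]
  have h2 : ∀ i, four z (wu.map L).prod (L 0) (L 1 * L 0 * L 1) i = ((w2 i).map L).prod := by
    intro i
    rw [prod_w2, hfam, D.z6]
  refine ⟨D.cover.z_ne, D.cover.z_comm, fun v v' hv hv' hc => ?_, hfam.symm,
    fun s hs h1 hz => D.conj_u hs h1 hz, fun k hk hk2 => ?_, fun i hi j hj h => ?_,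
    fun i hi j hj h => ?_, fun k hu hc hc' => ?_, fun k hu hc hc' => ?_, fun k hk hr => ?_,
    fun k hk hk3 hk1 => D.sylow hk hk3 hk1, D.mem_closure⟩
  · rw [hL v hv, hL v' hv']
    exact D.eq v v' (fun k hk => (hv k hk).trans (by norm_num))
      (fun k hk => (hv' k hk).trans (by norm_num)) hc
  · simp only [h1, h2]
    exact D.invol hk hk2
  · rw [h1, h1] at h
    exact D.inj_fam w1_lt chk_w1z hi hj h
  · rw [h2, h2] at h
    exact D.inj_fam w2_lt chk_w2z hi hj h
  · simp only [h1]
    refine D.cent_fam w1_lt act_reg1 act_com1 chk_w1zz' fun l hl => ?_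
    rw [← h1]
    exact four_comm (D.cover.z_comm k) hu hc hc' l
  · simp only [h2]
    refine D.cent_fam w2_lt act_reg2 act_com2 chk_w2zz' fun l hl => ?_
    rw [← h2]
    exact four_comm (D.cover.z_comm k) hu hc hc' l
  · obtain ⟨e, he, i, hi, j, hj, h⟩ := D.cent_rho hk hr
    rw [D.z6] at h
    refine ⟨z ^ e * (wu.map L).prod ^ i, ?_, j, hj, h⟩
    interval_cases e <;> interval_cases i <;> simp

end LData

end proof

/-- **Structure of the double cover of `A_8`.** -/
theorem exists_facts {C : Type*} [Group C] {π : C →* alternatingGroup (Fin 8)} {z : C}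
    (h : IsCover π z) : ∃ a b c x y w u : C, Facts z a b c x y w u := by
  obtain ⟨L, D⟩ := exists_ldata h
  exact ⟨_, _, _, _, _, _, _, D.facts⟩

end Cfsg.Agent.McLType.Facts8
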