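import Cfsg.Agent.McLType.Facts8

/-!
# Local analysis of groups with an involution centralizer `2.A_8`

`exists_d`: if the involution `z` with centralizer `2.A_8` is not isolated, there is an element `d`
of order three in the normalizer of the four-group `⟨z, u⟩` with known action.
-/

set_option autoImplicit false

namespace Cfsg.Agent.McLType.Local

open Cfsg.Agent.SporadicRecognition.AltCover
open Model8 Facts8 Subgroup

/-- The facts on the centralizer of `z` used in the local analysis. -/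
structure GFacts {G : Type*} [Group G] (z a b c x y w u : G) : Prop where
  z_ne : z ≠ 1
  words : ∀ v v' : List ℕ, (∀ k ∈ v, k < 7) → (∀ k ∈ v', k < 7) → chk v v' = true →
    (v.map (letter a b c x y w z)).prod = (v'.map (letter a b c x y w z)).prod
  u_def : u = b * a * b * c * (b * a * b * c)
  conj_u : ∀ s, s * z = z * s → s * s = 1 → s ≠ 1 → s ≠ z → ∃ k, k * z = z * k ∧ k * s * k⁻¹ = u
  invol : ∀ k, k * z = z * k → k * u = u * k → k * k = 1 →
    (∃ i < 16, k = four z u c (b * c * b) i) ∨ (∃ i < 16, k = four z u a (b * a * b) i)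
  inj₁ : ∀ i < 16, ∀ j < 16, four z u c (b * c * b) i = four z u c (b * c * b) j → i = j
  inj₂ : ∀ i < 16, ∀ j < 16, four z u a (b * a * b) i = four z u a (b * a * b) j → i = j
  cent₁ : ∀ k, k * z = z * k → k * u = u * k → k * c = c * k →
    k * (b * c * b) = b * c * b * k → ∃ i < 16, k = four z u c (b * c * b) i
  cent₂ : ∀ k, k * z = z * k → k * u = u * k → k * a = a * k →
    k * (b * a * b) = b * a * b * k → ∃ i < 16, k = four z u a (b * a * b) i
  cent_rho : ∀ k, k * z = z * k → k * u = u * k → k * (y * b) = y * b * k →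
    ∃ v, (v = 1 ∨ v = z ∨ v = u ∨ v = z * u) ∧ ∃ i < 3, k = v * (y * b) ^ i
  sylow : ∀ k, k * z = z * k → k * u = u * k → k ^ 3 = 1 → k ≠ 1 →
    ∃ h, h * z = z * h ∧ h * u = u * h ∧ (h * k * h⁻¹ = y * b ∨ h * k * h⁻¹ = (y * b)⁻¹)
  gen : closure {a, b, c, x, y, w} = centralizer {z}

theorem mem_cent {G : Type*} [Group G] {z k : G} : k ∈ centralizer ({z} : Set G) ↔ k * z = z * k :=
  mem_centralizer_singleton_iff

theorem gfacts_of_facts {G : Type*} [Group G] {t : G} {a b c x y w u : centralizer ({t} : Set G)}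
    (F : Facts (⟨t, mem_cent.2 rfl⟩ : centralizer ({t} : Set G)) a b c x y w u) :
    GFacts t (a : G) (b : G) (c : G) (x : G) (y : G) (w : G) (u : G) := by
  set z : centralizer ({t} : Set G) := ⟨t, mem_cent.2 rfl⟩ with hz
  have hf : ∀ (e₀ e₁ e₂ e₃ : centralizer ({t} : Set G)) (i : ℕ),
      ((four e₀ e₁ e₂ e₃ i : centralizer ({t} : Set G)) : G) =
        four (e₀ : G) (e₁ : G) (e₂ : G) (e₃ : G) i := fun e₀ e₁ e₂ e₃ i =>
    map_four (centralizer ({t} : Set G)).subtype e₀ e₁ e₂ e₃ i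
  have f1 : ∀ i, ((four z u c (b * c * b) i : centralizer ({t} : Set G)) : G) =
      four t (u : G) (c : G) ((b : G) * c * b) i := fun i => hf _ _ _ _ i
  have f2 : ∀ i, ((four z u a (b * a * b) i : centralizer ({t} : Set G)) : G) =
      four t (u : G) (a : G) ((b : G) * a * b) i := fun i => hf _ _ _ _ i
  have hw : ∀ v : List ℕ, (((v.map (letter a b c x y w z)).prod : centralizer ({t} : Set G)) : G) =
      (v.map (letter (a : G) (b : G) (c : G) (x : G) (y : G) (w : G) t)).prod := by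
    intro v
    have h1 : ∀ k, ((letter a b c x y w z k : centralizer ({t} : Set G)) : G) =
        letter (a : G) (b : G) (c : G) (x : G) (y : G) (w : G) t k := by
      intro k
      match k with
      | 0 => rfl
      | 1 => rfl
      | 2 => rfl
      | 3 => rfl
      | 4 => rfl
      | 5 => rfl
      | _ + 6 => rfl
    induction v with
    | nil => rfl
    | cons k v ih =>
      rw [List.map_cons, List.map_cons, List.prod_cons, List.prod_cons, Subgroup.coe_mul, ih, h1]
  refine ⟨fun h => F.z_ne (Subtype.ext h), fun v v' hv hv' hc => ?_, ?_, fun s hs h2 h1 h3 => ?_,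
    fun k hk hu h2 => ?_, fun i hi j hj h => ?_, fun i hi j hj h => ?_, fun k hk h1 h2 h3 => ?_,
    fun k hk h1 h2 h3 => ?_, fun k hk h1 h2 => ?_, fun k hk h1 h2 h3 => ?_, ?_⟩
  · rw [← hw, ← hw, F.words v v' hv hv' hc]
  · exact congrArg Subtype.val F.u_def
  · obtain ⟨k, hk⟩ := F.conj_u ⟨s, mem_cent.2 hs⟩ (Subtype.ext h2)
      (fun h => h1 (congrArg Subtype.val h)) (fun h => h3 (congrArg Subtype.val h))
    exact ⟨k, mem_cent.1 k.2, congrArg Subtype.val hk⟩
  · rcases F.invol ⟨k, mem_cent.2 hk⟩ (Subtype.ext hu) (Subtype.ext h2) with ⟨i, hi, h⟩ | ⟨i, hi, h⟩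
    · exact Or.inl ⟨i, hi, by rw [← f1, ← h]⟩
    · exact Or.inr ⟨i, hi, by rw [← f2, ← h]⟩
  · rw [← f1, ← f1] at h
    exact F.inj₁ i hi j hj (Subtype.ext h)
  · rw [← f2, ← f2] at h
    exact F.inj₂ i hi j hj (Subtype.ext h)
  · obtain ⟨i, hi, h⟩ := F.cent₁ ⟨k, mem_cent.2 hk⟩ (Subtype.ext h1) (Subtype.ext h2)
      (Subtype.ext h3)
    exact ⟨i, hi, by rw [← f1, ← h]⟩
  · obtain ⟨i, hi, h⟩ := F.cent₂ ⟨k, mem_cent.2 hk⟩ (Subtype.ext h1) (Subtype.ext h2)
      (Subtype.ext h3)
    exact ⟨i, hi, by rw [← f2, ← h]⟩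
  · obtain ⟨v, hv, i, hi, h⟩ := F.cent_rho ⟨k, mem_cent.2 hk⟩ (Subtype.ext h1) (Subtype.ext h2)
    refine ⟨v, ?_, i, hi, congrArg Subtype.val h⟩
    rcases hv with rfl | rfl | rfl | rfl
    · exact Or.inl rfl
    · exact Or.inr (Or.inl rfl)
    · exact Or.inr (Or.inr (Or.inl rfl))
    · exact Or.inr (Or.inr (Or.inr rfl))
  · obtain ⟨h, hu, h4⟩ := F.sylow ⟨k, mem_cent.2 hk⟩ (Subtype.ext h1) (Subtype.ext h2)
      (fun h => h3 (congrArg Subtype.val h))
    refine ⟨h, mem_cent.1 h.2, congrArg Subtype.val hu, ?_⟩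
    rcases h4 with h4 | h4
    · exact Or.inl (congrArg Subtype.val h4)
    · exact Or.inr (congrArg Subtype.val h4)
  · have h1 := congrArg (Subgroup.map (centralizer ({t} : Set G)).subtype) F.gen
    rw [MonoidHom.map_closure, ← MonoidHom.range_eq_map, Subgroup.range_subtype] at h1
    refine Eq.trans ?_ h1
    congr 1
    simp [Set.image_insert_eq]

/-- The facts on the centralizer of an involution which is a double cover of `A_8`. -/
theorem exists_gfacts {G : Type*} [Group G] {t : G}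
    {π : centralizer ({t} : Set G) →* alternatingGroup (Fin 8)}
    (h : IsCover π (⟨t, mem_cent.2 rfl⟩ : centralizer ({t} : Set G))) :
    ∃ a b c x y w u : G, GFacts t a b c x y w u := by
  obtain ⟨a, b, c, x, y, w, u, F⟩ := exists_facts h
  exact ⟨_, _, _, _, _, _, _, gfacts_of_facts F⟩


section cj

variable {G : Type*} [Group G]

/-- conjugation -/
def cj (h x : G) : G := h * x * h⁻¹

theorem cj_mul_left (h k x : G) : cj (h * k) x = cj h (cj k x) := by
  simp only [cj, mul_inv_rev]; group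

theorem cj_mul (h x y : G) : cj h (x * y) = cj h x * cj h y := by
  simp only [cj]; group

theorem cj_one (h : G) : cj h 1 = 1 := by simp [cj]

theorem one_cj (x : G) : cj 1 x = x := by simp [cj]

theorem cj_inv (h x : G) : cj h x⁻¹ = (cj h x)⁻¹ := by
  simp only [cj, mul_inv_rev, inv_inv, mul_assoc]

theorem cj_pow (h x : G) (n : ℕ) : cj h (x ^ n) = cj h x ^ n := by
  simp only [cj, conj_pow]

theorem cj_inj {h x y : G} : cj h x = cj h y ↔ x = y := by
  simp only [cj, mul_left_inj, mul_right_inj]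

theorem cj_eq_self {h x : G} : cj h x = x ↔ h * x = x * h := by
  rw [cj, mul_inv_eq_iff_eq_mul]

theorem cj_eq {h x y : G} : cj h x = y ↔ h * x = y * h := by
  rw [cj, mul_inv_eq_iff_eq_mul]

theorem cj_comm {h x y : G} (hxy : x * y = y * x) : cj h x * cj h y = cj h y * cj h x := by
  rw [← cj_mul, hxy, cj_mul]

end cj

section four

variable {G : Type*} [Group G]

/-- four commuting involutions -/
structure Four (e₀ e₁ e₂ e₃ : G) : Prop where
  s0 : e₀ * e₀ = 1
  s1 : e₁ * e₁ = 1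
  s2 : e₂ * e₂ = 1
  s3 : e₃ * e₃ = 1
  c01 : Commute e₀ e₁
  c02 : Commute e₀ e₂
  c03 : Commute e₀ e₃
  c12 : Commute e₁ e₂
  c13 : Commute e₁ e₃
  c23 : Commute e₂ e₃

theorem ite_mul_ite {e : G} (h : e * e = 1) (p q : Bool) :
    (if p then e else 1) * (if q then e else 1) = if (p ^^ q) then e else 1 := by
  cases p <;> cases q <;> simp [h]

theorem commute_ite {e f : G} (h : Commute e f) (p q : Bool) :
    Commute (if p then e else 1) (if q then f else 1) := by
  cases p <;> cases q <;> simp [h]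

theorem Four.mul {e₀ e₁ e₂ e₃ : G} (F : Four e₀ e₁ e₂ e₃) (i j : ℕ) :
    four e₀ e₁ e₂ e₃ i * four e₀ e₁ e₂ e₃ j = four e₀ e₁ e₂ e₃ (i ^^^ j) := by
  simp only [four, Nat.testBit_xor]
  rw [← ite_mul_ite F.s0, ← ite_mul_ite F.s1, ← ite_mul_ite F.s2, ← ite_mul_ite F.s3]
  generalize i.testBit 0 = p0
  generalize i.testBit 1 = p1
  generalize i.testBit 2 = p2
  generalize i.testBit 3 = p3
  generalize j.testBit 0 = q0
  generalize j.testBit 1 = q1
  generalize j.testBit 2 = q2
  generalize j.testBit 3 = q3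
  have h01 := (commute_ite F.c01 q0 p1).eq
  have h02 := (commute_ite F.c02 q0 p2).eq
  have h03 := (commute_ite F.c03 q0 p3).eq
  have h12 := (commute_ite F.c12 q1 p2).eq
  have h13 := (commute_ite F.c13 q1 p3).eq
  have h23 := (commute_ite F.c23 q2 p3).eq
  generalize (if p0 then e₀ else 1) = A0 at *
  generalize (if p1 then e₁ else 1) = A1 at *
  generalize (if p2 then e₂ else 1) = A2 at *
  generalize (if p3 then e₃ else 1) = A3 at *
  generalize (if q0 then e₀ else 1) = B0 at *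
  generalize (if q1 then e₁ else 1) = B1 at *
  generalize (if q2 then e₂ else 1) = B2 at *
  generalize (if q3 then e₃ else 1) = B3 at *
  calc A0 * A1 * A2 * A3 * (B0 * B1 * B2 * B3)
      = A0 * A1 * A2 * (A3 * B0) * B1 * B2 * B3 := by group
    _ = A0 * A1 * (A2 * B0) * A3 * B1 * B2 * B3 := by rw [← h03]; group
    _ = A0 * (A1 * B0) * A2 * A3 * B1 * B2 * B3 := by rw [← h02]; group
    _ = A0 * B0 * A1 * A2 * (A3 * B1) * B2 * B3 := by rw [← h01]; group
    _ = A0 * B0 * A1 * (A2 * B1) * A3 * B2 * B3 := by rw [← h13]; group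
    _ = A0 * B0 * A1 * B1 * A2 * (A3 * B2) * B3 := by rw [← h12]; group
    _ = A0 * B0 * (A1 * B1) * (A2 * B2) * (A3 * B3) := by rw [← h23]; group

theorem Four.lt_xor : ∀ i < 16, ∀ j < 16, i ^^^ j < 16 := by decide

/-- the subgroup generated by four commuting involutions -/
def Four.sub {e₀ e₁ e₂ e₃ : G} (F : Four e₀ e₁ e₂ e₃) : Subgroup G where
  carrier := {g | ∃ i < 16, g = four e₀ e₁ e₂ e₃ i}
  one_mem' := ⟨0, by norm_num, by simp [four]⟩
  mul_mem' := by
    rintro _ _ ⟨i, hi, rfl⟩ ⟨j, hj, rfl⟩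
    exact ⟨i ^^^ j, Four.lt_xor i hi j hj, F.mul i j⟩
  inv_mem' := by
    rintro _ ⟨i, hi, rfl⟩
    refine ⟨i, hi, ?_⟩
    rw [inv_eq_iff_mul_eq_one, F.mul, Nat.xor_self]
    simp [four]

theorem Four.mem_sub {e₀ e₁ e₂ e₃ : G} (F : Four e₀ e₁ e₂ e₃) {g : G} :
    g ∈ F.sub ↔ ∃ i < 16, g = four e₀ e₁ e₂ e₃ i := Iff.rfl

theorem cj_four (h e₀ e₁ e₂ e₃ : G) (i : ℕ) :
    cj h (four e₀ e₁ e₂ e₃ i) = four (cj h e₀) (cj h e₁) (cj h e₂) (cj h e₃) i := by
  simp only [four, cj_mul, apply_ite (cj h), cj_one]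

theorem Four.comm {e₀ e₁ e₂ e₃ : G} (F : Four e₀ e₁ e₂ e₃) {g g' : G} (hg : g ∈ F.sub)
    (hg' : g' ∈ F.sub) : g * g' = g' * g := by
  obtain ⟨i, -, rfl⟩ := hg
  obtain ⟨j, -, rfl⟩ := hg'
  rw [F.mul, F.mul, Nat.xor_comm]

theorem Four.sq {e₀ e₁ e₂ e₃ : G} (F : Four e₀ e₁ e₂ e₃) {g : G} (hg : g ∈ F.sub) :
    g * g = 1 := by
  obtain ⟨i, -, rfl⟩ := hg
  rw [F.mul, Nat.xor_self]
  simp [four]

end four

namespace GFacts

variable {G : Type*} [Group G] {z a b c x y w u : G} (F : GFacts z a b c x y w u)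

include F

theorem rel (v v' : List ℕ) (h : ((v.all (fun k => Nat.blt k 7)).and
    ((v'.all (fun k => Nat.blt k 7)).and (chk v v'))) = true) :
    (v.map (letter a b c x y w z)).prod = (v'.map (letter a b c x y w z)).prod := by
  simp only [Bool.and_eq_true, List.all_eq_true, Nat.blt_eq] at h
  exact F.words v v' h.1 h.2.1 h.2.2

theorem zz : z * z = 1 := by
  simpa only [List.map_cons, List.map_nil, List.prod_cons, List.prod_nil, letter, mul_one]
    using F.rel [6, 6] [] (by decide +kernel)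
theorem aa : a * a = 1 := by
  simpa only [List.map_cons, List.map_nil, List.prod_cons, List.prod_nil, letter, mul_one]
    using F.rel [0, 0] [] (by decide +kernel)
theorem bb : b * b = 1 := by
  simpa only [List.map_cons, List.map_nil, List.prod_cons, List.prod_nil, letter, mul_one]
    using F.rel [1, 1] [] (by decide +kernel)
theorem cc : c * c = 1 := by
  simpa only [List.map_cons, List.map_nil, List.prod_cons, List.prod_nil, letter, mul_one]
    using F.rel [2, 2] [] (by decide +kernel)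
theorem yy : y * y = 1 := by
  simpa only [List.map_cons, List.map_nil, List.prod_cons, List.prod_nil, letter, mul_one]
    using F.rel [4, 4] [] (by decide +kernel)
theorem az : a * z = z * a := by
  simpa only [List.map_cons, List.map_nil, List.prod_cons, List.prod_nil, letter, mul_one]
    using F.rel [0, 6] [6, 0] (by decide +kernel)
theorem bz : b * z = z * b := by
  simpa only [List.map_cons, List.map_nil, List.prod_cons, List.prod_nil, letter, mul_one]
    using F.rel [1, 6] [6, 1] (by decide +kernel)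
theorem cz : c * z = z * c := by
  simpa only [List.map_cons, List.map_nil, List.prod_cons, List.prod_nil, letter, mul_one]
    using F.rel [2, 6] [6, 2] (by decide +kernel)
theorem yz : y * z = z * y := by
  simpa only [List.map_cons, List.map_nil, List.prod_cons, List.prod_nil, letter, mul_one]
    using F.rel [4, 6] [6, 4] (by decide +kernel)

theorem uu : u * u = 1 := by
  rw [F.u_def]
  simpa only [List.map_cons, List.map_nil, List.prod_cons, List.prod_nil, letter, mul_one,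
    mul_assoc] using F.rel [1, 0, 1, 2, 1, 0, 1, 2, 1, 0, 1, 2, 1, 0, 1, 2] [] (by decide +kernel)
theorem uz : u * z = z * u := by
  rw [F.u_def]
  simpa only [List.map_cons, List.map_nil, List.prod_cons, List.prod_nil, letter, mul_one,
    mul_assoc] using F.rel [1, 0, 1, 2, 1, 0, 1, 2, 6] [6, 1, 0, 1, 2, 1, 0, 1, 2]
      (by decide +kernel)
theorem ua : u * a = a * u := by
  rw [F.u_def]
  simpa only [List.map_cons, List.map_nil, List.prod_cons, List.prod_nil, letter, mul_one,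
    mul_assoc] using F.rel [1, 0, 1, 2, 1, 0, 1, 2, 0] [0, 1, 0, 1, 2, 1, 0, 1, 2]
      (by decide +kernel)
theorem uc : u * c = c * u := by
  rw [F.u_def]
  simpa only [List.map_cons, List.map_nil, List.prod_cons, List.prod_nil, letter, mul_one,
    mul_assoc] using F.rel [1, 0, 1, 2, 1, 0, 1, 2, 2] [2, 1, 0, 1, 2, 1, 0, 1, 2]
      (by decide +kernel)
theorem ub : b * u = z * u * b := by
  rw [F.u_def]
  simpa only [List.map_cons, List.map_nil, List.prod_cons, List.prod_nil, letter, mul_one,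
    mul_assoc] using F.rel [1, 1, 0, 1, 2, 1, 0, 1, 2] [6, 1, 0, 1, 2, 1, 0, 1, 2, 1]
      (by decide +kernel)
theorem uy : y * u = z * u * y := by
  rw [F.u_def]
  simpa only [List.map_cons, List.map_nil, List.prod_cons, List.prod_nil, letter, mul_one,
    mul_assoc] using F.rel [4, 1, 0, 1, 2, 1, 0, 1, 2] [6, 1, 0, 1, 2, 1, 0, 1, 2, 4]
      (by decide +kernel)
theorem c_c' : c * (b * c * b) = b * c * b * c := by
  simpa only [List.map_cons, List.map_nil, List.prod_cons, List.prod_nil, letter, mul_one,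
    mul_assoc] using F.rel [2, 1, 2, 1] [1, 2, 1, 2] (by decide +kernel)
theorem a_a' : a * (b * a * b) = b * a * b * a := by
  simpa only [List.map_cons, List.map_nil, List.prod_cons, List.prod_nil, letter, mul_one,
    mul_assoc] using F.rel [0, 1, 0, 1] [1, 0, 1, 0] (by decide +kernel)
theorem rho3 : (y * b) ^ 3 = 1 := by
  simpa only [List.map_cons, List.map_nil, List.prod_cons, List.prod_nil, letter, mul_one,
    mul_assoc, pow_succ, pow_zero, one_mul] using F.rel [4, 1, 4, 1, 4, 1] [] (by decide +kernel)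
/-- `ρ c = c c' ρ` -/
theorem rho_c : y * b * c = c * (b * c * b) * (y * b) := by
  simpa only [List.map_cons, List.map_nil, List.prod_cons, List.prod_nil, letter, mul_one,
    mul_assoc] using F.rel [4, 1, 2] [2, 1, 2, 1, 4, 1] (by decide +kernel)
/-- `ρ c' = c ρ` -/
theorem rho_c' : y * b * (b * c * b) = c * (y * b) := by
  simpa only [List.map_cons, List.map_nil, List.prod_cons, List.prod_nil, letter, mul_one,
    mul_assoc] using F.rel [4, 1, 1, 2, 1] [2, 4, 1] (by decide +kernel)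
theorem rho_a : y * b * a = a * (b * a * b) * (y * b) := by
  simpa only [List.map_cons, List.map_nil, List.prod_cons, List.prod_nil, letter, mul_one,
    mul_assoc] using F.rel [4, 1, 0] [0, 1, 0, 1, 4, 1] (by decide +kernel)
theorem rho_a' : y * b * (b * a * b) = a * (y * b) := by
  simpa only [List.map_cons, List.map_nil, List.prod_cons, List.prod_nil, letter, mul_one,
    mul_assoc] using F.rel [4, 1, 1, 0, 1] [0, 4, 1] (by decide +kernel)
theorem ca_sq : c * a * (c * a) = z := by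
  simpa only [List.map_cons, List.map_nil, List.prod_cons, List.prod_nil, letter, mul_one,
    mul_assoc] using F.rel [2, 0, 2, 0] [6] (by decide +kernel)
theorem ca'_sq : c * (b * a * b) * (c * (b * a * b)) = u := by
  rw [F.u_def]
  simpa only [List.map_cons, List.map_nil, List.prod_cons, List.prod_nil, letter, mul_one,
    mul_assoc] using F.rel [2, 1, 0, 1, 2, 1, 0, 1] [1, 0, 1, 2, 1, 0, 1, 2] (by decide +kernel)
theorem caa'_sq : c * (a * (b * a * b)) * (c * (a * (b * a * b))) = z * u := by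
  rw [F.u_def]
  simpa only [List.map_cons, List.map_nil, List.prod_cons, List.prod_nil, letter, mul_one,
    mul_assoc] using F.rel [2, 0, 1, 0, 1, 2, 0, 1, 0, 1] [6, 1, 0, 1, 2, 1, 0, 1, 2]
      (by decide +kernel)

theorem u_ne_one : u ≠ 1 := by
  intro h
  have := F.inj₁ 2 (by norm_num) 0 (by norm_num) (by simp [four, Nat.testBit, h])
  norm_num at this

theorem u_ne_z : u ≠ z := by
  intro h
  have := F.inj₁ 2 (by norm_num) 1 (by norm_num) (by simp [four, Nat.testBit, h])
  norm_num at this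

theorem bcb_sq : b * c * b * (b * c * b) = 1 := by
  calc b * c * b * (b * c * b) = b * c * (b * b) * c * b := by group
    _ = b * (c * c) * b := by rw [F.bb]; group
    _ = 1 := by rw [F.cc, mul_one, F.bb]

theorem bab_sq : b * a * b * (b * a * b) = 1 := by
  calc b * a * b * (b * a * b) = b * a * (b * b) * a * b := by group
    _ = b * (a * a) * b := by rw [F.bb]; group
    _ = 1 := by rw [F.aa, mul_one, F.bb]

theorem uc' : u * (b * c * b) = b * c * b * u := by
  rw [F.u_def]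
  simpa only [List.map_cons, List.map_nil, List.prod_cons, List.prod_nil, letter, mul_one,
    mul_assoc] using F.rel [1, 0, 1, 2, 1, 0, 1, 2, 1, 2, 1] [1, 2, 1, 1, 0, 1, 2, 1, 0, 1, 2]
      (by decide +kernel)

theorem ua' : u * (b * a * b) = b * a * b * u := by
  rw [F.u_def]
  simpa only [List.map_cons, List.map_nil, List.prod_cons, List.prod_nil, letter, mul_one,
    mul_assoc] using F.rel [1, 0, 1, 2, 1, 0, 1, 2, 1, 0, 1] [1, 0, 1, 1, 0, 1, 2, 1, 0, 1, 2]
      (by decide +kernel)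

theorem c'z : b * c * b * z = z * (b * c * b) := by
  simpa only [List.map_cons, List.map_nil, List.prod_cons, List.prod_nil, letter, mul_one,
    mul_assoc] using F.rel [1, 2, 1, 6] [6, 1, 2, 1] (by decide +kernel)

theorem a'z : b * a * b * z = z * (b * a * b) := by
  simpa only [List.map_cons, List.map_nil, List.prod_cons, List.prod_nil, letter, mul_one,
    mul_assoc] using F.rel [1, 0, 1, 6] [6, 1, 0, 1] (by decide +kernel)

theorem four₁ : Four z u c (b * c * b) :=
  ⟨F.zz, F.uu, F.cc, F.bcb_sq, F.uz.symm, F.cz.symm, F.c'z.symm, F.uc, F.uc', F.c_c'⟩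

theorem four₂ : Four z u a (b * a * b) :=
  ⟨F.zz, F.uu, F.aa, F.bab_sq, F.uz.symm, F.az.symm, F.a'z.symm, F.ua, F.ua', F.a_a'⟩

theorem rho_z : y * b * z = z * (y * b) := by
  rw [mul_assoc, F.bz, ← mul_assoc, F.yz, mul_assoc]

theorem rho_u : y * b * u = u * (y * b) := by
  rw [F.u_def]
  simpa only [List.map_cons, List.map_nil, List.prod_cons, List.prod_nil, letter, mul_one,
    mul_assoc] using F.rel [4, 1, 1, 0, 1, 2, 1, 0, 1, 2] [1, 0, 1, 2, 1, 0, 1, 2, 4, 1]
      (by decide +kernel)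

theorem rho_ne : y * b ≠ 1 := by
  intro h
  have h1 := F.rho_c
  rw [h, one_mul, mul_one, eq_comm, mul_eq_left] at h1
  have h2 := F.inj₁ 8 (by norm_num) 0 (by norm_num) (by simp [four, Nat.testBit, h1])
  norm_num at h2

/-- an element normalising `⟨z, u⟩` with `z ↦ u ↦ zu` -/
theorem exists_h1 (hfus : ∃ h s : G, cj h z = s ∧ s ≠ z ∧ s * z = z * s) :
    ∃ h : G, cj h z = u ∧ cj h u = z * u := by
  obtain ⟨h, s, hs, hsz, hsc⟩ := hfus
  have hss : s * s = 1 := by rw [← hs, ← cj_mul, F.zz, cj_one]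
  have hs1 : s ≠ 1 := by
    rintro rfl
    rw [← cj_one h, cj_inj] at hs
    exact F.z_ne hs
  obtain ⟨k1, hk1, hk1s⟩ := F.conj_u s hsc hss hs1 hsz
  -- `k2 z k2⁻¹ = u`
  obtain ⟨k2, hk2⟩ : ∃ k2, cj k2 z = u := ⟨k1 * h, by rw [cj_mul_left, hs]; exact hk1s⟩
  have hk2' : cj k2⁻¹ u = z := by rw [← hk2, ← cj_mul_left, inv_mul_cancel, one_cj]
  set r := cj k2⁻¹ z with hr
  have hrz : r * z = z * r := by
    rw [← hk2', hr, ← cj_mul, ← F.uz, cj_mul]
  have hrr : r * r = 1 := by rw [hr, ← cj_mul, F.zz, cj_one]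
  have hr1 : r ≠ 1 := by
    intro h
    rw [hr, ← cj_one k2⁻¹, cj_inj] at h
    exact F.z_ne h
  have hrz' : r ≠ z := by
    intro h
    have h' : cj k2⁻¹ z = cj k2⁻¹ u := h.trans hk2'.symm
    rw [cj_inj] at h'
    exact F.u_ne_z h'.symm
  obtain ⟨k3, hk3, hk3r⟩ := F.conj_u r hrz hrr hr1 hrz'
  refine ⟨k3 * k2⁻¹ * b, ?_, ?_⟩
  · rw [cj_mul_left, cj_eq_self.2 F.bz, cj_mul_left]
    exact hk3r
  · have h1 : cj b u = z * u := by rw [cj_eq]; exact F.ub
    have h2 : cj (k3 * k2⁻¹) z = u := by rw [cj_mul_left]; exact hk3r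
    have h3 : cj (k3 * k2⁻¹) u = z := by rw [cj_mul_left, hk2', cj_eq_self]; exact hk3
    rw [cj_mul_left, h1, cj_mul, h2, h3, F.uz]

theorem cj_zu {h : G} (h1 : cj h z = u) (h2 : cj h u = z * u) : cj h (z * u) = z := by
  rw [cj_mul, h1, h2, ← mul_assoc, F.uz, mul_assoc, F.uu, mul_one]

theorem comm_of_cj {h : G} (h1 : cj h z = u) (h2 : cj h u = z * u) {v : G}
    (hvz : v * z = z * v) (hvu : v * u = u * v) :
    cj h v * z = z * cj h v ∧ cj h v * u = u * cj h v := by
  have h3 := F.cj_zu h1 h2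
  constructor
  · have h4 : cj h v * cj h (z * u) = cj h (z * u) * cj h v := by
      rw [← cj_mul, ← cj_mul, ← mul_assoc, hvz, mul_assoc, hvu, ← mul_assoc]
    rwa [h3] at h4
  · have h4 : cj h v * cj h z = cj h z * cj h v := cj_comm hvz
    rwa [h1] at h4

/-- the element may be chosen to normalise `⟨ρ⟩` -/
theorem exists_h2 (hfus : ∃ h s : G, cj h z = s ∧ s ≠ z ∧ s * z = z * s) :
    ∃ h : G, cj h z = u ∧ cj h u = z * u ∧ (cj h (y * b) = y * b ∨ cj h (y * b) = (y * b)⁻¹) := by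
  obtain ⟨h, h1, h2⟩ := F.exists_h1 hfus
  obtain ⟨h3, h4⟩ := F.comm_of_cj h1 h2 F.rho_z F.rho_u
  obtain ⟨k, hkz, hku, hk⟩ := F.sylow (cj h (y * b)) h3 h4 (by rw [← cj_pow, F.rho3, cj_one])
    (fun h5 => F.rho_ne (by rw [← cj_one h, cj_inj] at h5; exact h5))
  refine ⟨k * h, ?_, ?_, ?_⟩
  · rw [cj_mul_left, h1, cj_eq_self]; exact hku
  · rw [cj_mul_left, h2, cj_mul, cj_eq_self.2 hkz, cj_eq_self.2 hku]
  · rcases hk with hk | hk
    · left; rw [cj_mul_left]; exact hk
    · right; rw [cj_mul_left]; exact hk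

theorem mem_cent_sub₁ {v : G} (hv : v ∈ F.four₁.sub) : v * z = z * v ∧ v * u = u * v :=
  ⟨F.four₁.comm hv ⟨1, by norm_num, by simp [four, Nat.testBit]⟩,
    F.four₁.comm hv ⟨2, by norm_num, by simp [four, Nat.testBit]⟩⟩

theorem mem_cent_sub₂ {v : G} (hv : v ∈ F.four₂.sub) : v * z = z * v ∧ v * u = u * v :=
  ⟨F.four₂.comm hv ⟨1, by norm_num, by simp [four, Nat.testBit]⟩,
    F.four₂.comm hv ⟨2, by norm_num, by simp [four, Nat.testBit]⟩⟩

theorem c_mem : c ∈ F.four₁.sub := ⟨4, by norm_num, by simp [four, Nat.testBit]⟩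
theorem c'_mem : b * c * b ∈ F.four₁.sub := ⟨8, by norm_num, by simp [four, Nat.testBit]⟩
theorem a_mem : a ∈ F.four₂.sub := ⟨4, by norm_num, by simp [four, Nat.testBit]⟩
theorem a'_mem : b * a * b ∈ F.four₂.sub := ⟨8, by norm_num, by simp [four, Nat.testBit]⟩

theorem not_comm_ca : c * a ≠ a * c := by
  intro h
  have h1 := F.ca_sq
  rw [show c * a * (c * a) = c * (a * c) * a by group, ← h,
    show c * (c * a) * a = c * c * (a * a) by group, F.cc, F.aa, mul_one] at h1
  exact F.z_ne h1.symm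

/-- an element normalising `⟨z, u⟩` permutes the two subgroups -/
theorem cj_sub {h : G} (h1 : cj h z = u) (h2 : cj h u = z * u) :
    ((∀ v ∈ F.four₁.sub, cj h v ∈ F.four₁.sub) ∧ (∀ v ∈ F.four₂.sub, cj h v ∈ F.four₂.sub)) ∨
    ((∀ v ∈ F.four₁.sub, cj h v ∈ F.four₂.sub) ∧ (∀ v ∈ F.four₂.sub, cj h v ∈ F.four₁.sub)) := by
  have key1 : F.four₁.sub.map (MulAut.conj h).toMonoidHom ≤ F.four₁.sub ∨
      F.four₁.sub.map (MulAut.conj h).toMonoidHom ≤ F.four₂.sub := by
    rw [← SubgroupClass.subset_union]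
    rintro _ ⟨v, hv, rfl⟩
    obtain ⟨h3, h4⟩ := F.mem_cent_sub₁ hv
    obtain ⟨h5, h6⟩ := F.comm_of_cj h1 h2 h3 h4
    exact F.invol _ h5 h6 (by
      change cj h v * cj h v = 1
      rw [← cj_mul, F.four₁.sq hv, cj_one])
  have key2 : F.four₂.sub.map (MulAut.conj h).toMonoidHom ≤ F.four₁.sub ∨
      F.four₂.sub.map (MulAut.conj h).toMonoidHom ≤ F.four₂.sub := by
    rw [← SubgroupClass.subset_union]
    rintro _ ⟨v, hv, rfl⟩
    obtain ⟨h3, h4⟩ := F.mem_cent_sub₂ hv
    obtain ⟨h5, h6⟩ := F.comm_of_cj h1 h2 h3 h4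
    exact F.invol _ h5 h6 (by
      change cj h v * cj h v = 1
      rw [← cj_mul, F.four₂.sq hv, cj_one])
  have hval : ∀ {A B : Subgroup G}, A.map (MulAut.conj h).toMonoidHom ≤ B → ∀ v ∈ A, cj h v ∈ B :=
    fun hAB v hv => hAB ⟨v, hv, rfl⟩
  have hne : ∀ {B : Subgroup G}, (∀ g ∈ B, ∀ g' ∈ B, g * g' = g' * g) → cj h c ∈ B → cj h a ∈ B →
      False := by
    intro B hB hc ha
    have h3 := hB _ hc _ ha
    rw [← cj_mul, ← cj_mul, cj_inj] at h3
    exact F.not_comm_ca h3
  rcases key1 with k1 | k1 <;> rcases key2 with k2 | k2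
  · exact (hne (fun g hg g' hg' => F.four₁.comm hg hg') (hval k1 _ F.c_mem)
      (hval k2 _ F.a_mem)).elim
  · exact Or.inl ⟨hval k1, hval k2⟩
  · exact Or.inr ⟨hval k1, hval k2⟩
  · exact (hne (fun g hg g' hg' => F.four₂.comm hg hg') (hval k1 _ F.c_mem)
      (hval k2 _ F.a_mem)).elim

/-- the element may be chosen to centralise `ρ` and to normalise both subgroups -/
theorem exists_h3 (hfus : ∃ h s : G, cj h z = s ∧ s ≠ z ∧ s * z = z * s) :
    ∃ h : G, cj h z = u ∧ cj h u = z * u ∧ cj h (y * b) = y * b ∧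
      (∀ v ∈ F.four₁.sub, cj h v ∈ F.four₁.sub) ∧ (∀ v ∈ F.four₂.sub, cj h v ∈ F.four₂.sub) := by
  obtain ⟨h, h1, h2, h3⟩ := F.exists_h2 hfus
  have h4 := F.cj_zu h1 h2
  have hρ : cj (h * h) (y * b) = y * b := by
    rw [cj_mul_left]
    rcases h3 with h3 | h3
    · rw [h3, h3]
    · rw [h3, cj_inv, h3, inv_inv]
  have hs : (∀ v ∈ F.four₁.sub, cj (h * h) v ∈ F.four₁.sub) ∧
      (∀ v ∈ F.four₂.sub, cj (h * h) v ∈ F.four₂.sub) := by
    rcases F.cj_sub h1 h2 with ⟨k1, k2⟩ | ⟨k1, k2⟩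
    · exact ⟨fun v hv => by rw [cj_mul_left]; exact k1 _ (k1 _ hv),
        fun v hv => by rw [cj_mul_left]; exact k2 _ (k2 _ hv)⟩
    · exact ⟨fun v hv => by rw [cj_mul_left]; exact k2 _ (k1 _ hv),
        fun v hv => by rw [cj_mul_left]; exact k1 _ (k2 _ hv)⟩
  refine ⟨h * h * (h * h), ?_, ?_, ?_, fun v hv => ?_, fun v hv => ?_⟩
  · rw [cj_mul_left, cj_mul_left, cj_mul_left, h1, h2, h4, h1]
  · rw [cj_mul_left, cj_mul_left, cj_mul_left, h2, h4, h1, h2]
  · rw [cj_mul_left, hρ, hρ]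
  · rw [cj_mul_left]; exact hs.1 _ (hs.1 _ hv)
  · rw [cj_mul_left]; exact hs.2 _ (hs.2 _ hv)

theorem cj_rho_four₁ (i : ℕ) : cj (y * b) (four z u c (b * c * b) i) =
    four z u (c * (b * c * b)) c i := by
  rw [cj_four, cj_eq_self.2 F.rho_z, cj_eq_self.2 F.rho_u, cj_eq.2 F.rho_c, cj_eq.2 F.rho_c']

theorem cj_rho_four₂ (i : ℕ) : cj (y * b) (four z u a (b * a * b) i) =
    four z u (a * (b * a * b)) a i := by
  rw [cj_four, cj_eq_self.2 F.rho_z, cj_eq_self.2 F.rho_u, cj_eq.2 F.rho_a, cj_eq.2 F.rho_a']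

/-- commutators with `ρ` -/
theorem comm_rho {e f : G} (ht : Four z u e f) (hr1 : cj (y * b) e = e * f)
    (hr2 : cj (y * b) f = e) {v : G} (hv : v ∈ ht.sub) :
    v * cj (y * b) v = 1 ∨ v * cj (y * b) v = e ∨ v * cj (y * b) v = f ∨
      v * cj (y * b) v = e * f := by
  have hρ : ∀ i, cj (y * b) (four z u e f i) = four z u (e * f) e i := by
    intro i
    rw [cj_four, cj_eq_self.2 F.rho_z, cj_eq_self.2 F.rho_u, hr1, hr2]
  have h12 : four z u e f 12 = e * f := by simp [four, Nat.testBit]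
  have h4 : four z u e f 4 = e := by simp [four, Nat.testBit]
  have h8 : four z u e f 8 = f := by simp [four, Nat.testBit]
  have h0 : four z u e f 0 = 1 := by simp [four]
  have htab : ∀ i < 16, four z u (e * f) e i = four z u e f
      ((if i.testBit 0 then 1 else 0) ^^^ (if i.testBit 1 then 2 else 0) ^^^
        (if i.testBit 2 then 12 else 0) ^^^ (if i.testBit 3 then 4 else 0)) := by
    intro i _
    rw [← ht.mul, ← ht.mul, ← ht.mul]
    rw [four]
    congr 1
    · congr 1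
      · congr 1
        · cases i.testBit 0 <;> simp [four, Nat.testBit]
        · cases i.testBit 1 <;> simp [four, Nat.testBit]
      · cases i.testBit 2
        · simp [four]
        · simp [h12]
    · cases i.testBit 3
      · simp [four]
      · simp [h4]
  obtain ⟨i, hi, rfl⟩ := hv
  rw [hρ, htab i hi, ht.mul]
  have hfin : ∀ i < 16, (i ^^^ ((if i.testBit 0 then 1 else 0) ^^^ (if i.testBit 1 then 2 else 0) ^^^
        (if i.testBit 2 then 12 else 0) ^^^ (if i.testBit 3 then 4 else 0))) = 0 ∨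
      (i ^^^ ((if i.testBit 0 then 1 else 0) ^^^ (if i.testBit 1 then 2 else 0) ^^^
        (if i.testBit 2 then 12 else 0) ^^^ (if i.testBit 3 then 4 else 0))) = 4 ∨
      (i ^^^ ((if i.testBit 0 then 1 else 0) ^^^ (if i.testBit 1 then 2 else 0) ^^^
        (if i.testBit 2 then 12 else 0) ^^^ (if i.testBit 3 then 4 else 0))) = 8 ∨
      (i ^^^ ((if i.testBit 0 then 1 else 0) ^^^ (if i.testBit 1 then 2 else 0) ^^^
        (if i.testBit 2 then 12 else 0) ^^^ (if i.testBit 3 then 4 else 0))) = 12 := by decide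
  rcases hfin i hi with h | h | h | h
  · left; rw [h, h0]
  · right; left; rw [h, h4]
  · right; right; left; rw [h, h8]
  · right; right; right; rw [h, h12]

/-- an element commuting with `ρ` and normalising `⟨z, u, e, f⟩` permutes `e, f, ef` -/
theorem cj_three {e f : G} (ht : Four z u e f) (hr1 : cj (y * b) e = e * f)
    (hr2 : cj (y * b) f = e) (he : e ≠ 1) {h : G} (h3 : cj h (y * b) = y * b)
    (hs : ∀ v ∈ ht.sub, cj h v ∈ ht.sub) :
    cj h e = e ∨ cj h e = f ∨ cj h e = e * f := by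
  have hef : e * f ∈ ht.sub := ⟨12, by norm_num, by simp [four, Nat.testBit]⟩
  have h4 : e = (e * f) * cj (y * b) (e * f) := by
    rw [cj_mul, hr1, hr2, ht.c23.eq, show f * e * (f * e * e) = f * (e * f) * (e * e) by group,
      ht.s2, mul_one, ht.c23.eq, ← mul_assoc, ht.s3, one_mul]
  have h5 : cj h e = cj h (e * f) * cj (y * b) (cj h (e * f)) := by
    conv_lhs => rw [h4]
    rw [cj_mul, ← cj_mul_left, ← cj_mul_left]
    congr 2
    rw [cj_eq] at h3
    exact h3
  have h6 := F.comm_rho ht hr1 hr2 (hs _ hef)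
  rw [← h5] at h6
  rcases h6 with h7 | h7 | h7 | h7
  · exfalso
    rw [← cj_one h, cj_inj] at h7
    exact he h7
  · exact Or.inl h7
  · exact Or.inr (Or.inl h7)
  · exact Or.inr (Or.inr h7)

theorem c_ne_one : c ≠ 1 := by
  intro h
  exact F.not_comm_ca (by rw [h, one_mul, mul_one])

theorem a_ne_one : a ≠ 1 := by
  intro h
  exact F.not_comm_ca (by rw [h, one_mul, mul_one])

/-- an element `v ρ ^ i` centralising `c` lies in `⟨z, u⟩` -/
theorem mem_of_cent {v k : G} {i : ℕ} (hv : v = 1 ∨ v = z ∨ v = u ∨ v = z * u) (hi : i < 3)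
    (hk : k = v * (y * b) ^ i) (hc : cj k c = c) : k = v := by
  have hvc : cj v c = c := by
    rcases hv with rfl | rfl | rfl | rfl
    · exact one_cj _
    · exact cj_eq_self.2 F.cz.symm
    · exact cj_eq_self.2 F.uc
    · rw [cj_mul_left, cj_eq_self.2 F.uc, cj_eq_self.2 F.cz.symm]
  have h1 : cj ((y * b) ^ i) c = c := by
    rw [hk, cj_mul_left] at hc
    have h2 := hc.trans hvc.symm
    exact cj_inj.1 h2
  have hρc := cj_eq.2 F.rho_c
  have hρc' := cj_eq.2 F.rho_c'
  interval_cases i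
  · rw [hk, pow_zero, mul_one]
  · exfalso
    rw [pow_one, hρc, mul_eq_left] at h1
    have h2 := F.inj₁ 8 (by norm_num) 0 (by norm_num) (by simp [four, Nat.testBit, h1])
    norm_num at h2
  · exfalso
    rw [pow_two, cj_mul_left, hρc, cj_mul, hρc, hρc'] at h1
    have h3 : c * (b * c * b) * c = b * c * b := by
      rw [F.c_c', mul_assoc, F.cc, mul_one]
    rw [h3] at h1
    have h2 := F.inj₁ 8 (by norm_num) 4 (by norm_num) (by simp [four, Nat.testBit, h1])
    norm_num at h2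

theorem fixed_V {h v : G} (h1 : cj h z = u) (h2 : cj h u = z * u)
    (hv : v = 1 ∨ v = z ∨ v = u ∨ v = z * u) (hf : cj h v = v) : v = 1 := by
  rcases hv with rfl | rfl | rfl | rfl
  · rfl
  · exact absurd (h1.symm.trans hf) F.u_ne_z
  · exfalso
    have := h2.symm.trans hf
    rw [mul_eq_right] at this
    exact F.z_ne this
  · exfalso
    have := (F.cj_zu h1 h2).symm.trans hf
    rw [eq_comm, mul_eq_left] at this
    exact F.u_ne_one this

/-- the element `d` up to the last normalisation -/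
theorem exists_h4 (hfus : ∃ h s : G, cj h z = s ∧ s ≠ z ∧ s * z = z * s) :
    ∃ d : G, cj d z = u ∧ cj d u = z * u ∧ cj d (y * b) = y * b ∧ cj d c = c ∧
      cj d a = b * a * b ∧ d ^ 3 = 1 := by
  obtain ⟨h, h1, h2, h3, h4, h5⟩ := F.exists_h3 hfus
  have hρz := cj_eq_self.2 F.rho_z
  have hρu := cj_eq_self.2 F.rho_u
  have hρc := cj_eq.2 F.rho_c
  have hρc' := cj_eq.2 F.rho_c'
  have hρa := cj_eq.2 F.rho_a
  have hρa' := cj_eq.2 F.rho_a'
  have hρcc' : cj (y * b) (c * (b * c * b)) = b * c * b := by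
    rw [cj_mul, hρc, hρc', F.c_c', mul_assoc, F.cc, mul_one]
  have hρaa' : cj (y * b) (a * (b * a * b)) = b * a * b := by
    rw [cj_mul, hρa, hρa', F.a_a', mul_assoc, F.aa, mul_one]
  have hρρ : cj (y * b) (y * b) = y * b := cj_eq_self.2 rfl
  have hρsub₁ : ∀ v ∈ F.four₁.sub, cj (y * b) v ∈ F.four₁.sub := by
    rintro _ ⟨i, hi, rfl⟩
    rw [F.cj_rho_four₁, four]
    refine mul_mem (mul_mem (mul_mem ?_ ?_) ?_) ?_
    · split_ifs
      · exact ⟨1, by norm_num, by simp [four, Nat.testBit]⟩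
      · exact one_mem _
    · split_ifs
      · exact ⟨2, by norm_num, by simp [four, Nat.testBit]⟩
      · exact one_mem _
    · split_ifs
      · exact mul_mem F.c_mem F.c'_mem
      · exact one_mem _
    · split_ifs
      · exact F.c_mem
      · exact one_mem _
  have hρsub₂ : ∀ v ∈ F.four₂.sub, cj (y * b) v ∈ F.four₂.sub := by
    rintro _ ⟨i, hi, rfl⟩
    rw [F.cj_rho_four₂, four]
    refine mul_mem (mul_mem (mul_mem ?_ ?_) ?_) ?_
    · split_ifs
      · exact ⟨1, by norm_num, by simp [four, Nat.testBit]⟩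
      · exact one_mem _
    · split_ifs
      · exact ⟨2, by norm_num, by simp [four, Nat.testBit]⟩
      · exact one_mem _
    · split_ifs
      · exact mul_mem F.a_mem F.a'_mem
      · exact one_mem _
    · split_ifs
      · exact F.a_mem
      · exact one_mem _
  -- multiply by a power of `ρ`
  obtain ⟨d, hd1, hd2, hd3, hdc, hd5⟩ : ∃ d : G, cj d z = u ∧ cj d u = z * u ∧
      cj d (y * b) = y * b ∧ cj d c = c ∧ (∀ v ∈ F.four₂.sub, cj d v ∈ F.four₂.sub) := by
    have step : ∀ k, (cj k z = u ∧ cj k u = z * u ∧ cj k (y * b) = y * b ∧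
        (∀ v ∈ F.four₂.sub, cj k v ∈ F.four₂.sub)) →
        (cj (y * b * k) z = u ∧ cj (y * b * k) u = z * u ∧ cj (y * b * k) (y * b) = y * b ∧
        (∀ v ∈ F.four₂.sub, cj (y * b * k) v ∈ F.four₂.sub)) ∧
        cj (y * b * k) c = cj (y * b) (cj k c) := by
      rintro k ⟨k1, k2, k3, k4⟩
      refine ⟨⟨?_, ?_, ?_, fun v hv => ?_⟩, cj_mul_left _ _ _⟩
      · rw [cj_mul_left, k1, hρu]
      · rw [cj_mul_left, k2, cj_mul, hρz, hρu]
      · rw [cj_mul_left, k3, hρρ]
      · rw [cj_mul_left]; exact hρsub₂ _ (k4 _ hv)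
    rcases F.cj_three F.four₁ hρc hρc' F.c_ne_one h3 h4 with h6 | h6 | h6
    · exact ⟨h, h1, h2, h3, h6, h5⟩
    · obtain ⟨⟨k1, k2, k3, k4⟩, k5⟩ := step h ⟨h1, h2, h3, h5⟩
      exact ⟨y * b * h, k1, k2, k3, by rw [k5, h6, hρc'], k4⟩
    · obtain ⟨hk, k5⟩ := step h ⟨h1, h2, h3, h5⟩
      obtain ⟨⟨k1, k2, k3, k4⟩, k6⟩ := step _ hk
      exact ⟨_, k1, k2, k3, by rw [k6, k5, h6, hρcc', hρc'], k4⟩
  have hda : cj d a = b * a * b := by
    have h7 : (cj d c * cj d a) * (cj d c * cj d a) = u := by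
      rw [← cj_mul, ← cj_mul, F.ca_sq, hd1]
    rw [hdc] at h7
    rcases F.cj_three F.four₂ hρa hρa' F.a_ne_one hd3 hd5 with h6 | h6 | h6
    · exfalso
      rw [h6, F.ca_sq] at h7
      exact F.u_ne_z h7.symm
    · exact h6
    · exfalso
      rw [h6, F.caa'_sq, mul_eq_right] at h7
      exact F.z_ne h7
  refine ⟨d, hd1, hd2, hd3, hdc, hda, ?_⟩
  have hzu := F.cj_zu hd1 hd2
  have hdd : d ^ 3 = d * (d * d) := by rw [pow_succ', pow_two]
  have e1 : cj (d ^ 3) z = z := by rw [hdd, cj_mul_left, cj_mul_left, hd1, hd2, hzu]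
  have e2 : cj (d ^ 3) u = u := by rw [hdd, cj_mul_left, cj_mul_left, hd2, hzu, hd1]
  have e3 : cj (d ^ 3) (y * b) = y * b := by rw [hdd, cj_mul_left, cj_mul_left, hd3, hd3, hd3]
  have e4 : cj (d ^ 3) c = c := by rw [hdd, cj_mul_left, cj_mul_left, hdc, hdc, hdc]
  obtain ⟨v, hv, i, hi, h6⟩ := F.cent_rho (d ^ 3) (cj_eq_self.1 e1) (cj_eq_self.1 e2)
    (cj_eq_self.1 e3)
  have h7 := F.mem_of_cent hv hi h6 e4
  have h8 : cj d v = v := by
    rw [← h7, cj_pow, cj_eq_self.2 rfl]
  rw [h7]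
  exact F.fixed_V hd1 hd2 hv h8

/-- **The element `d`.** -/
theorem exists_d (hfus : ∃ h s : G, cj h z = s ∧ s ≠ z ∧ s * z = z * s) :
    ∃ d : G, cj d z = u ∧ cj d u = z * u ∧ cj d (y * b) = y * b ∧ cj d c = c ∧
      cj d a = b * a * b ∧ d ^ 3 = 1 ∧ d * b * (d * b) = 1 := by
  obtain ⟨d, h1, h2, h3, h4, h5, h6⟩ := F.exists_h4 hfus
  have hbi : b⁻¹ = b := inv_eq_of_mul_eq_one_left F.bb
  have hbz : cj b z = z := cj_eq_self.2 F.bz
  have hbu : cj b u = z * u := cj_eq.2 F.ub
  have hbzu : cj b (z * u) = u := by rw [cj_mul, hbz, hbu, ← mul_assoc, F.zz, one_mul]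
  have hbc : cj b c = b * c * b := by rw [cj, hbi]
  have hbc' : cj b (b * c * b) = c := by
    rw [cj, hbi]
    calc b * (b * c * b) * b = (b * b) * c * (b * b) := by group
      _ = c := by rw [F.bb, one_mul, mul_one]
  have hbρ : cj b (y * b) = (y * b)⁻¹ := by
    rw [cj, hbi, mul_inv_rev, hbi, inv_eq_of_mul_eq_one_left F.yy]
    calc b * (y * b) * b = b * y * (b * b) := by group
      _ = b * y := by rw [F.bb, mul_one]
  have hdc' : cj d (b * c * b) = b * c * b := by
    -- `c' = ρ⁻¹ c ρ`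
    have h7 : b * c * b = cj (y * b)⁻¹ c := by
      calc b * c * b = cj (y * b)⁻¹ (cj (y * b) (b * c * b)) := by
            rw [← cj_mul_left, inv_mul_cancel, one_cj]
        _ = cj (y * b)⁻¹ c := by rw [cj_eq.2 F.rho_c']
    have h8 : d * (y * b)⁻¹ = (y * b)⁻¹ * d := by
      have := cj_eq_self.1 h3
      rw [mul_inv_eq_iff_eq_mul, mul_assoc, this, inv_mul_cancel_left]
    rw [h7, ← cj_mul_left, h8, cj_mul_left, h4]
  have hzu := F.cj_zu h1 h2
  -- `t = d * (b d b)`
  set t := d * b * (d * b) with ht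
  have tz : cj t z = z := by
    rw [ht, cj_mul_left, cj_mul_left, cj_mul_left, hbz, h1, hbu, hzu]
  have tu : cj t u = u := by
    rw [ht, cj_mul_left, cj_mul_left, cj_mul_left, hbu, hzu, hbz, h1]
  have tρ : cj t (y * b) = y * b := by
    rw [ht, cj_mul_left, cj_mul_left, cj_mul_left, hbρ, cj_inv, h3, cj_inv, hbρ, inv_inv, h3]
  have tc : cj t c = c := by
    rw [ht, cj_mul_left, cj_mul_left, cj_mul_left, hbc, hdc', hbc', h4]
  obtain ⟨v, hv, i, hi, h7⟩ := F.cent_rho t (cj_eq_self.1 tz) (cj_eq_self.1 tu)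
    (cj_eq_self.1 tρ)
  have h8 := F.mem_of_cent hv hi h7 tc
  have htv : cj (d * b) v = v := by
    rw [← h8, ht, cj_eq_self]
    group
  -- `v = 1` or `v = zu`
  have hv2 : v = 1 ∨ v = z * u := by
    rcases hv with hv | hv | hv | hv
    · exact Or.inl hv
    · exfalso
      rw [hv, cj_mul_left, hbz, h1] at htv
      exact F.u_ne_z htv
    · exfalso
      rw [hv, cj_mul_left, hbu, hzu] at htv
      exact F.u_ne_z htv.symm
    · exact Or.inr hv
  rcases hv2 with hv2 | hv2
  · exact ⟨d, h1, h2, h3, h4, h5, h6, by rw [← ht, h8, hv2]⟩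
  · have huz : cj u z = z := cj_eq_self.2 F.uz
    have huu : cj u u = u := cj_eq_self.2 rfl
    have hui : u⁻¹ = u := inv_eq_of_mul_eq_one_left F.uu
    refine ⟨u * d * u, ?_, ?_, ?_, ?_, ?_, ?_, ?_⟩
    · rw [cj_mul_left, cj_mul_left, huz, h1, huu]
    · rw [cj_mul_left, cj_mul_left, huu, h2, cj_mul, huz, huu]
    · have : cj u (y * b) = y * b := cj_eq_self.2 F.rho_u.symm
      rw [cj_mul_left, cj_mul_left, this, h3, this]
    · have : cj u c = c := cj_eq_self.2 F.uc
      rw [cj_mul_left, cj_mul_left, this, h4, this]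
    · have e1 : cj u a = a := cj_eq_self.2 F.ua
      have e2 : cj u (b * a * b) = b * a * b := cj_eq_self.2 F.ua'
      rw [cj_mul_left, cj_mul_left, e1, h5, e2]
    · calc (u * d * u) ^ 3 = u * d * (u * u) * d * (u * u) * d * u := by
            simp only [pow_succ, pow_zero, one_mul]; group
        _ = u * (d ^ 3) * u := by rw [F.uu, mul_one, mul_one]; simp only [pow_succ, pow_zero, one_mul]; group
        _ = 1 := by rw [h6, mul_one, F.uu]
    · -- `u b = b (z u)`, so `(u d u b)² = u d b z u d b z = ...`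
      have e1 : u * b = b * (z * u) := by
        have := cj_eq.1 hbzu
        exact this.symm
      have e2 : d * b * z = u * (d * b) := by
        rw [← cj_eq, cj_mul_left, hbz, h1]
      have e3 : d * b * (d * b) = z * u := by rw [← ht, h8, hv2]
      have e4 : d * b * z * (d * b * z) = 1 := by
        calc d * b * z * (d * b * z) = u * (d * b) * (d * b * z) := by rw [← e2]
          _ = u * (d * b * (d * b)) * z := by group
          _ = u * u * (z * z) := by rw [e3, ← F.uz]; group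
          _ = 1 := by rw [F.uu, F.zz, mul_one]
      calc u * d * u * b * (u * d * u * b) = u * d * (u * b) * u * d * (u * b) := by group
        _ = u * (d * b * z) * (u * u) * (d * b * z) * u := by rw [e1]; group
        _ = u * (d * b * z * (d * b * z)) * u := by rw [F.uu]; group
        _ = 1 := by rw [e4, mul_one, F.uu]

end GFacts

end Cfsg.Agent.McLType.Local
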