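import Cfsg.Agent.McLType.Local

/-!
# The relators of the seven involutions `a b c x y w g`

`gen a b c x y w g : Fin 7 → G`; `ok r` is a test for words `r` which guarantees that `r` is a
relation in every group with a non-isolated involution whose centralizer is `2.A_8`.
-/

set_option autoImplicit false
set_option maxRecDepth 100000

namespace Cfsg.Agent.McLType.Relators

open Model8 Facts8 Local Subgroup

/-- the tuple of the seven generators -/
def gen {G : Type*} (a b c x y w g : G) : Fin 7 → G := ![a, b, c, x, y, w, g]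

/-- linear map on bit vectors given by the images of the basis -/
def lin (m : ℕ × ℕ × ℕ × ℕ) (i : ℕ) : ℕ :=
  (if i.testBit 0 then m.1 else 0) ^^^ (if i.testBit 1 then m.2.1 else 0) ^^^
    (if i.testBit 2 then m.2.2.1 else 0) ^^^ (if i.testBit 3 then m.2.2.2 else 0)

/-- action of the letters on `A_1` -/
def m1 : ℕ → ℕ × ℕ × ℕ × ℕ
  | 0 => (1, 2, 5, 11)
  | 1 => (1, 3, 8, 4)
  | 2 => (1, 2, 4, 8)
  | 3 => (1, 15, 5, 9)
  | 4 => (1, 3, 4, 12)
  | 6 => (3, 2, 4, 12)
  | _ => (0, 0, 0, 0)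

/-- action of the letters on `A_2` -/
def m2 : ℕ → ℕ × ℕ × ℕ × ℕ
  | 0 => (1, 2, 4, 8)
  | 1 => (1, 3, 8, 4)
  | 2 => (1, 2, 5, 10)
  | 4 => (1, 3, 4, 12)
  | 5 => (1, 15, 5, 9)
  | 6 => (3, 2, 12, 8)
  | _ => (0, 0, 0, 0)

theorem m1_lt : ∀ k < 7, (m1 k).1 < 16 ∧ (m1 k).2.1 < 16 ∧ (m1 k).2.2.1 < 16 ∧
    (m1 k).2.2.2 < 16 := by decide
theorem m2_lt : ∀ k < 7, (m2 k).1 < 16 ∧ (m2 k).2.1 < 16 ∧ (m2 k).2.2.1 < 16 ∧
    (m2 k).2.2.2 < 16 := by decide

theorem chk_m1 : ∀ k < 5, (chk (k :: w1 1) (w1 (m1 k).1 ++ [k])) = true ∧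
    (chk (k :: w1 2) (w1 (m1 k).2.1 ++ [k])) = true ∧
    (chk (k :: w1 4) (w1 (m1 k).2.2.1 ++ [k])) = true ∧
    (chk (k :: w1 8) (w1 (m1 k).2.2.2 ++ [k])) = true := by decide +kernel

theorem chk_m2 : ∀ k < 6, k ≠ 3 → (chk (k :: w2 1) (w2 (m2 k).1 ++ [k])) = true ∧
    (chk (k :: w2 2) (w2 (m2 k).2.1 ++ [k])) = true ∧
    (chk (k :: w2 4) (w2 (m2 k).2.2.1 ++ [k])) = true ∧
    (chk (k :: w2 8) (w2 (m2 k).2.2.2 ++ [k])) = true := by decide +kernel

section four

variable {G : Type*} [Group G] {e₀ e₁ e₂ e₃ : G}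

theorem four_zero : four e₀ e₁ e₂ e₃ 0 = 1 := by simp [four]
theorem four_one : four e₀ e₁ e₂ e₃ 1 = e₀ := by simp [four, Nat.testBit]
theorem four_two : four e₀ e₁ e₂ e₃ 2 = e₁ := by simp [four, Nat.testBit]
theorem four_four : four e₀ e₁ e₂ e₃ 4 = e₂ := by simp [four, Nat.testBit]
theorem four_eight : four e₀ e₁ e₂ e₃ 8 = e₃ := by simp [four, Nat.testBit]

theorem four_comp (F : Four e₀ e₁ e₂ e₃) (m : ℕ × ℕ × ℕ × ℕ) (i : ℕ) :
    four (four e₀ e₁ e₂ e₃ m.1) (four e₀ e₁ e₂ e₃ m.2.1) (four e₀ e₁ e₂ e₃ m.2.2.1)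
      (four e₀ e₁ e₂ e₃ m.2.2.2) i = four e₀ e₁ e₂ e₃ (lin m i) := by
  have key : ∀ (p : Bool) (n : ℕ), (if p then four e₀ e₁ e₂ e₃ n else 1) =
      four e₀ e₁ e₂ e₃ (if p then n else 0) := by
    intro p n
    cases p
    · simp [four_zero]
    · simp
  rw [lin, ← F.mul, ← F.mul, ← F.mul, four, key, key, key, key]

theorem cj_four_of (F : Four e₀ e₁ e₂ e₃) {h : G} {m : ℕ × ℕ × ℕ × ℕ}
    (h0 : cj h e₀ = four e₀ e₁ e₂ e₃ m.1) (h1 : cj h e₁ = four e₀ e₁ e₂ e₃ m.2.1)
    (h2 : cj h e₂ = four e₀ e₁ e₂ e₃ m.2.2.1) (h3 : cj h e₃ = four e₀ e₁ e₂ e₃ m.2.2.2) (i : ℕ) :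
    cj h (four e₀ e₁ e₂ e₃ i) = four e₀ e₁ e₂ e₃ (lin m i) := by
  rw [cj_four, h0, h1, h2, h3, four_comp F]

end four

/-- The data of the local analysis. -/
structure Data {G : Type*} [Group G] (z a b c x y w u d : G) : Prop where
  F : GFacts z a b c x y w u
  dz : cj d z = u
  du : cj d u = z * u
  dρ : cj d (y * b) = y * b
  dc : cj d c = c
  da : cj d a = b * a * b
  d3 : d ^ 3 = 1
  db : d * b * (d * b) = 1

namespace Data

variable {G : Type*} [Group G] {z a b c x y w u d : G} (D : Data z a b c x y w u d)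

include D

theorem hbi : b⁻¹ = b := inv_eq_of_mul_eq_one_left D.F.bb

theorem rho_inv_c : cj (y * b)⁻¹ c = b * c * b := by
  rw [← cj_eq.2 D.F.rho_c', ← cj_mul_left, inv_mul_cancel, one_cj, cj_eq.2 D.F.rho_c']

theorem rho_inv_c' : cj (y * b)⁻¹ (b * c * b) = c * (b * c * b) := by
  have h : cj (y * b) (c * (b * c * b)) = b * c * b := by
    rw [cj_mul, cj_eq.2 D.F.rho_c, cj_eq.2 D.F.rho_c', D.F.c_c', mul_assoc, D.F.cc, mul_one]
  calc cj (y * b)⁻¹ (b * c * b) = cj (y * b)⁻¹ (cj (y * b) (c * (b * c * b))) := by rw [h]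
    _ = c * (b * c * b) := by rw [← cj_mul_left, inv_mul_cancel, one_cj]

theorem rho_inv_a : cj (y * b)⁻¹ a = b * a * b := by
  rw [← cj_eq.2 D.F.rho_a', ← cj_mul_left, inv_mul_cancel, one_cj, cj_eq.2 D.F.rho_a']

theorem rho_inv_a' : cj (y * b)⁻¹ (b * a * b) = a * (b * a * b) := by
  have h : cj (y * b) (a * (b * a * b)) = b * a * b := by
    rw [cj_mul, cj_eq.2 D.F.rho_a, cj_eq.2 D.F.rho_a', D.F.a_a', mul_assoc, D.F.aa, mul_one]
  calc cj (y * b)⁻¹ (b * a * b) = cj (y * b)⁻¹ (cj (y * b) (a * (b * a * b))) := by rw [h]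
    _ = a * (b * a * b) := by rw [← cj_mul_left, inv_mul_cancel, one_cj]

theorem d_comm : d * (y * b)⁻¹ = (y * b)⁻¹ * d := by
  have := cj_eq_self.1 D.dρ
  rw [mul_inv_eq_iff_eq_mul, mul_assoc, this, inv_mul_cancel_left]

theorem dc' : cj d (b * c * b) = b * c * b := by
  rw [← D.rho_inv_c, ← cj_mul_left, D.d_comm, cj_mul_left, D.dc]

theorem da' : cj d (b * a * b) = a * (b * a * b) := by
  rw [← D.rho_inv_a, ← cj_mul_left, D.d_comm, cj_mul_left, D.da, D.rho_inv_a', D.rho_inv_a]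

theorem rho_inv_z : cj (y * b)⁻¹ z = z := by
  rw [cj_eq_self]
  have : Commute (y * b) z := D.F.rho_z
  exact this.inv_left

theorem rho_inv_u : cj (y * b)⁻¹ u = u := by
  rw [cj_eq_self]
  have : Commute (y * b) u := D.F.rho_u
  exact this.inv_left

/-- conjugation by `e = d ρ⁻¹` -/
theorem ez : cj (d * (y * b)⁻¹) z = u := by rw [cj_mul_left, D.rho_inv_z, D.dz]
theorem eu : cj (d * (y * b)⁻¹) u = z * u := by rw [cj_mul_left, D.rho_inv_u, D.du]
theorem ec : cj (d * (y * b)⁻¹) c = b * c * b := by rw [cj_mul_left, D.rho_inv_c, D.dc']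
theorem ec' : cj (d * (y * b)⁻¹) (b * c * b) = c * (b * c * b) := by
  rw [cj_mul_left, D.rho_inv_c', cj_mul, D.dc, D.dc']
theorem ea : cj (d * (y * b)⁻¹) a = a * (b * a * b) := by rw [cj_mul_left, D.rho_inv_a, D.da']
theorem ea' : cj (d * (y * b)⁻¹) (b * a * b) = a := by
  rw [cj_mul_left, D.rho_inv_a', cj_mul, D.da, D.da', ← mul_assoc, ← D.F.a_a', mul_assoc,
    D.F.bab_sq, mul_one]

theorem e3 : (d * (y * b)⁻¹) ^ 3 = 1 := by
  have h : Commute d (y * b)⁻¹ := D.d_comm
  rw [h.mul_pow, D.d3, inv_pow, D.F.rho3, inv_one, mul_one]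

/-- `b e = e⁻¹ b` -/
theorem be : (d * (y * b)⁻¹) * b = b * (d * (y * b)⁻¹)⁻¹ := by
  have h1 : d * b = b * d⁻¹ := by
    have := D.db
    rw [mul_eq_one_iff_eq_inv, mul_inv_rev, D.hbi] at this
    exact this
  have hyi : y⁻¹ = y := inv_eq_of_mul_eq_one_left D.F.yy
  have h2 : (y * b)⁻¹ * b = b * (y * b) := by
    rw [mul_inv_rev, D.hbi, hyi, mul_assoc]
  calc d * (y * b)⁻¹ * b = d * b * (y * b) := by rw [mul_assoc, h2, mul_assoc]
    _ = b * (d⁻¹ * (y * b)) := by rw [h1, mul_assoc]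
    _ = b * (d * (y * b)⁻¹)⁻¹ := by
      have h3 : Commute d⁻¹ (y * b) := by
        have : Commute d (y * b)⁻¹ := D.d_comm
        simpa using this.inv_inv
      rw [mul_inv_rev, inv_inv, h3.eq]

/-- words in `a b c x y w z` -/
theorem prod1 (i : ℕ) : ((w1 i).map (letter a b c x y w z)).prod = four z u c (b * c * b) i := by
  rw [prod_w1, D.F.u_def]
  rfl

theorem prod2 (i : ℕ) : ((w2 i).map (letter a b c x y w z)).prod = four z u a (b * a * b) i := by
  rw [prod_w2, D.F.u_def]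
  rfl

theorem cj_letter {fam : ℕ → List ℕ} (hlt : ∀ i < 16, ∀ k ∈ fam i, k < 7) {k i j : ℕ} (hk : k < 7)
    (hi : i < 16) (hj : j < 16) (h : chk (k :: fam i) (fam j ++ [k]) = true) :
    cj (letter a b c x y w z k) ((fam i).map (letter a b c x y w z)).prod =
      ((fam j).map (letter a b c x y w z)).prod := by
  rw [cj_eq]
  have := D.F.words (k :: fam i) (fam j ++ [k]) (by
    intro l hl
    rcases List.mem_cons.1 hl with h | h
    · rw [h]; exact hk
    · exact hlt i hi l h) (by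
    intro l hl
    rcases List.mem_append.1 hl with h | h
    · exact hlt j hj l h
    · rw [List.mem_singleton.1 h]; exact hk) h
  rwa [List.map_cons, List.prod_cons, List.map_append, List.prod_append, List.map_singleton,
    List.prod_singleton] at this

theorem cj_letter1 {k : ℕ} (hk : k < 5) (i : ℕ) :
    cj (letter a b c x y w z k) (four z u c (b * c * b) i) =
      four z u c (b * c * b) (lin (m1 k) i) := by
  obtain ⟨h0, h1, h2, h3⟩ := chk_m1 k hk
  obtain ⟨l0, l1, l2, l3⟩ := m1_lt k (by omega)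
  have e0 := D.cj_letter w1_lt' (by omega) (by norm_num) l0 h0
  have e1 := D.cj_letter w1_lt' (by omega) (by norm_num) l1 h1
  have e2 := D.cj_letter w1_lt' (by omega) (by norm_num) l2 h2
  have e3 := D.cj_letter w1_lt' (by omega) (by norm_num) l3 h3
  rw [D.prod1, D.prod1] at e0 e1 e2 e3
  rw [four_one] at e0
  rw [four_two] at e1
  rw [four_four] at e2
  rw [four_eight] at e3
  exact cj_four_of D.F.four₁ e0 e1 e2 e3 i

theorem cj_letter2 {k : ℕ} (hk : k < 6) (hk3 : k ≠ 3) (i : ℕ) :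
    cj (letter a b c x y w z k) (four z u a (b * a * b) i) =
      four z u a (b * a * b) (lin (m2 k) i) := by
  obtain ⟨h0, h1, h2, h3⟩ := chk_m2 k hk hk3
  obtain ⟨l0, l1, l2, l3⟩ := m2_lt k (by omega)
  have e0 := D.cj_letter w2_lt' (by omega) (by norm_num) l0 h0
  have e1 := D.cj_letter w2_lt' (by omega) (by norm_num) l1 h1
  have e2 := D.cj_letter w2_lt' (by omega) (by norm_num) l2 h2
  have e3 := D.cj_letter w2_lt' (by omega) (by norm_num) l3 h3
  rw [D.prod2, D.prod2] at e0 e1 e2 e3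
  rw [four_one] at e0
  rw [four_two] at e1
  rw [four_four] at e2
  rw [four_eight] at e3
  exact cj_four_of D.F.four₂ e0 e1 e2 e3 i

theorem cj_g1 (i : ℕ) : cj (b * (d * (y * b)⁻¹)) (four z u c (b * c * b) i) =
    four z u c (b * c * b) (lin (m1 6) i) := by
  have hz : cj b z = z := cj_eq_self.2 D.F.bz
  have hu : cj b u = z * u := cj_eq.2 D.F.ub
  have hc : cj b c = b * c * b := by rw [cj, D.hbi]
  have hc' : cj b (b * c * b) = c := by
    rw [cj, D.hbi]
    calc b * (b * c * b) * b = (b * b) * c * (b * b) := by group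
      _ = c := by rw [D.F.bb, one_mul, mul_one]
  refine cj_four_of D.F.four₁ ?_ ?_ ?_ ?_ i
  · rw [cj_mul_left, D.ez, hu]
    simp [m1, four, Nat.testBit]
  · rw [cj_mul_left, D.eu, cj_mul, hz, hu, ← mul_assoc, D.F.zz, one_mul]
    simp [m1, four, Nat.testBit]
  · rw [cj_mul_left, D.ec, hc']
    simp [m1, four, Nat.testBit]
  · rw [cj_mul_left, D.ec', cj_mul, hc, hc', ← D.F.c_c']
    simp [m1, four, Nat.testBit]

theorem cj_g2 (i : ℕ) : cj (b * (d * (y * b)⁻¹)) (four z u a (b * a * b) i) =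
    four z u a (b * a * b) (lin (m2 6) i) := by
  have hz : cj b z = z := cj_eq_self.2 D.F.bz
  have hu : cj b u = z * u := cj_eq.2 D.F.ub
  have ha : cj b a = b * a * b := by rw [cj, D.hbi]
  have ha' : cj b (b * a * b) = a := by
    rw [cj, D.hbi]
    calc b * (b * a * b) * b = (b * b) * a * (b * b) := by group
      _ = a := by rw [D.F.bb, one_mul, mul_one]
  refine cj_four_of D.F.four₂ ?_ ?_ ?_ ?_ i
  · rw [cj_mul_left, D.ez, hu]
    simp [m2, four, Nat.testBit]
  · rw [cj_mul_left, D.eu, cj_mul, hz, hu, ← mul_assoc, D.F.zz, one_mul]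
    simp [m2, four, Nat.testBit]
  · rw [cj_mul_left, D.ea, cj_mul, ha, ha', ← D.F.a_a']
    simp [m2, four, Nat.testBit]
  · rw [cj_mul_left, D.ea', ha]
    simp [m2, four, Nat.testBit]

omit D in
/-- the letters as a function on `ℕ` -/
theorem gen_eq (k : Fin 7) (hk : (k : ℕ) ≠ 6) :
    gen a b c x y w (b * (d * (y * b)⁻¹)) k = letter a b c x y w z (k : ℕ) := by
  fin_cases k
  · rfl
  · rfl
  · rfl
  · rfl
  · rfl
  · rfl
  · exact absurd rfl hk

theorem cj_gen1 (k : Fin 7) (hk : (k : ℕ) ≠ 5) (i : ℕ) :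
    cj (gen a b c x y w (b * (d * (y * b)⁻¹)) k) (four z u c (b * c * b) i) =
      four z u c (b * c * b) (lin (m1 k) i) := by
  by_cases h6 : (k : ℕ) = 6
  · have hk6 : k = 6 := Fin.ext h6
    subst hk6
    exact D.cj_g1 i
  · rw [gen_eq k h6]
    exact D.cj_letter1 (by omega) i

theorem cj_gen2 (k : Fin 7) (hk : (k : ℕ) ≠ 3) (i : ℕ) :
    cj (gen a b c x y w (b * (d * (y * b)⁻¹)) k) (four z u a (b * a * b) i) =
      four z u a (b * a * b) (lin (m2 k) i) := by
  by_cases h6 : (k : ℕ) = 6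
  · have hk6 : k = 6 := Fin.ext h6
    subst hk6
    exact D.cj_g2 i
  · rw [gen_eq k h6]
    exact D.cj_letter2 (by omega) hk i

end Data

/-- action of a word -/
def apw (m : ℕ → ℕ × ℕ × ℕ × ℕ) (r : List (Fin 7)) (i : ℕ) : ℕ :=
  r.foldr (fun k i => lin (m k) i) i

/-- the test for fixed-point-free words -/
def tFpf (m : ℕ → ℕ × ℕ × ℕ × ℕ) (bad : ℕ) (r : List (Fin 7)) (n : ℕ) : Bool :=
  (r.all fun k => (Nat.beq k bad).not).and
    ((allb 16 fun i => (Nat.beq i 0).or (Nat.beq (apw m r i) i).not).and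
      ((allb 16 fun i => Nat.beq ((apw m r)^[n] i) i).and (allb 16 fun i => Nat.blt (apw m r i) 16)))

/-- the test for words in `a b c x y w` -/
def tC (r : List (Fin 7)) : Bool :=
  (r.all fun k => (Nat.beq k 6).not).and (chk (r.map Fin.val) [])

/-- `e ^ i` times a letter in the form `W e ^ j`, together with a validity flag -/
def nvs : ℕ → ℕ → List ℕ × ℕ × Bool
  | 0, 0 => ([0], 0, true)
  | 0, 1 => ([0, 1, 0, 1], 1, true)
  | 0, 2 => ([1, 0, 1], 2, true)
  | 1, 0 => ([1], 0, true)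
  | 1, 1 => ([1], 2, true)
  | 1, 2 => ([1], 1, true)
  | 2, 0 => ([2], 0, true)
  | 2, 1 => ([1, 2, 1], 1, true)
  | 2, 2 => ([2, 1, 2, 1], 2, true)
  | 4, 0 => ([4], 0, true)
  | 4, 1 => ([4], 2, true)
  | 4, 2 => ([4], 1, true)
  | 6, 0 => ([1], 1, true)
  | 6, 1 => ([1], 0, true)
  | 6, 2 => ([1], 2, true)
  | _, _ => ([], 0, false)

/-- evaluation of a word in `a b c y g` in the form `W e ^ i`, together with a validity flag -/
def nv : List (Fin 7) → List ℕ → ℕ → Bool → List ℕ × ℕ × Bool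
  | [], W, i, f => (W, i, f)
  | k :: r, W, i, f => nv r (W ++ (nvs k i).1) (nvs k i).2.1 (f.and (nvs k i).2.2)

/-- the test for words in `a b c y g` -/
def tN (r : List (Fin 7)) : Bool :=
  (nv r [] 0 true).2.2.and ((Nat.beq (nv r [] 0 true).2.1 0).and
    (((nv r [] 0 true).1.all fun k => Nat.blt k 7).and (chk (nv r [] 0 true).1 [])))

/-- repeated word -/
def rep (r : List (Fin 7)) (n : ℕ) : List (Fin 7) := (List.replicate n r).flatten

/-- the test for relators -/
def ok (r : List (Fin 7)) : Bool :=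
  (tC r).or ((tN r).or ([3, 5, 7].any fun n =>
    ((rep (r.take (r.length / n)) n == r).and
      ((tFpf m1 5 (r.take (r.length / n)) n).or (tFpf m2 3 (r.take (r.length / n)) n)))))

namespace Data

variable {G : Type*} [Group G] {z a b c x y w u d : G} (D : Data z a b c x y w u d)

include D

theorem fpf₁ {r : List (Fin 7)} {n : ℕ} (h : tFpf m1 5 r n = true) :
    ((r.map (gen a b c x y w (b * (d * (y * b)⁻¹)))).prod) ^ n = 1 := by
  simp only [tFpf, Bool.and_eq_true, List.all_eq_true, allb_iff, Bool.or_eq_true, not_beq,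
    Nat.beq_eq, Nat.blt_eq] at h
  obtain ⟨h1, h2, h3, h4⟩ := h
  set W := (r.map (gen a b c x y w (b * (d * (y * b)⁻¹)))).prod with hW
  have hcj : ∀ i, cj W (four z u c (b * c * b) i) = four z u c (b * c * b) (apw m1 r i) := by
    rw [hW]
    clear hW h2 h3 h4
    clear W
    induction r with
    | nil => intro i; exact one_cj _
    | cons k r ih =>
      intro i
      rw [List.map_cons, List.prod_cons, cj_mul_left, ih (fun l hl => h1 l (List.mem_cons_of_mem _ hl)),
        D.cj_gen1 k (h1 k List.mem_cons_self)]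
      rfl
  have hpow : ∀ (n i : ℕ), cj (W ^ n) (four z u c (b * c * b) i) =
      four z u c (b * c * b) ((apw m1 r)^[n] i) := by
    intro n
    induction n with
    | zero => intro i; rw [pow_zero, one_cj]; rfl
    | succ n ih => intro i; rw [pow_succ, cj_mul_left, hcj, ih]; rfl
  have hfix : ∀ i < 16, cj (W ^ n) (four z u c (b * c * b) i) = four z u c (b * c * b) i := by
    intro i hi
    rw [hpow, h3 i hi]
  obtain ⟨j, hj, h5⟩ := D.F.cent₁ (W ^ n)
    (cj_eq_self.1 (by have := hfix 1 (by norm_num); rwa [four_one] at this))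
    (cj_eq_self.1 (by have := hfix 2 (by norm_num); rwa [four_two] at this))
    (cj_eq_self.1 (by have := hfix 4 (by norm_num); rwa [four_four] at this))
    (cj_eq_self.1 (by have := hfix 8 (by norm_num); rwa [four_eight] at this))
  have h6 : cj W (W ^ n) = W ^ n := by rw [cj_pow, cj_eq_self.2 rfl]
  rw [h5, hcj] at h6
  have h7 := D.F.inj₁ _ (h4 j hj) _ hj h6
  rcases h2 j hj with h8 | h8
  · rw [h5, h8, four_zero]
  · exact absurd h7 h8

theorem fpf₂ {r : List (Fin 7)} {n : ℕ} (h : tFpf m2 3 r n = true) :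
    ((r.map (gen a b c x y w (b * (d * (y * b)⁻¹)))).prod) ^ n = 1 := by
  simp only [tFpf, Bool.and_eq_true, List.all_eq_true, allb_iff, Bool.or_eq_true, not_beq,
    Nat.beq_eq, Nat.blt_eq] at h
  obtain ⟨h1, h2, h3, h4⟩ := h
  set W := (r.map (gen a b c x y w (b * (d * (y * b)⁻¹)))).prod with hW
  have hcj : ∀ i, cj W (four z u a (b * a * b) i) = four z u a (b * a * b) (apw m2 r i) := by
    rw [hW]
    clear hW h2 h3 h4
    clear W
    induction r with
    | nil => intro i; exact one_cj _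
    | cons k r ih =>
      intro i
      rw [List.map_cons, List.prod_cons, cj_mul_left, ih (fun l hl => h1 l (List.mem_cons_of_mem _ hl)),
        D.cj_gen2 k (h1 k List.mem_cons_self)]
      rfl
  have hpow : ∀ (n i : ℕ), cj (W ^ n) (four z u a (b * a * b) i) =
      four z u a (b * a * b) ((apw m2 r)^[n] i) := by
    intro n
    induction n with
    | zero => intro i; rw [pow_zero, one_cj]; rfl
    | succ n ih => intro i; rw [pow_succ, cj_mul_left, hcj, ih]; rfl
  have hfix : ∀ i < 16, cj (W ^ n) (four z u a (b * a * b) i) = four z u a (b * a * b) i := by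
    intro i hi
    rw [hpow, h3 i hi]
  obtain ⟨j, hj, h5⟩ := D.F.cent₂ (W ^ n)
    (cj_eq_self.1 (by have := hfix 1 (by norm_num); rwa [four_one] at this))
    (cj_eq_self.1 (by have := hfix 2 (by norm_num); rwa [four_two] at this))
    (cj_eq_self.1 (by have := hfix 4 (by norm_num); rwa [four_four] at this))
    (cj_eq_self.1 (by have := hfix 8 (by norm_num); rwa [four_eight] at this))
  have h6 : cj W (W ^ n) = W ^ n := by rw [cj_pow, cj_eq_self.2 rfl]
  rw [h5, hcj] at h6
  have h7 := D.F.inj₂ _ (h4 j hj) _ hj h6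
  rcases h2 j hj with h8 | h8
  · rw [h5, h8, four_zero]
  · exact absurd h7 h8

theorem tC_spec {r : List (Fin 7)} (h : tC r = true) :
    (r.map (gen a b c x y w (b * (d * (y * b)⁻¹)))).prod = 1 := by
  simp only [tC, Bool.and_eq_true, List.all_eq_true, not_beq] at h
  obtain ⟨h1, h2⟩ := h
  have h3 := D.F.words _ [] (by
    intro k hk
    obtain ⟨l, -, rfl⟩ := List.mem_map.1 hk
    exact l.2) (by simp) h2
  rw [List.map_map, List.map_nil, List.prod_nil] at h3
  rw [← h3]
  congr 1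
  refine List.map_congr_left fun k hk => ?_
  exact gen_eq k (h1 k hk)

theorem nvs_spec (k : Fin 7) {i : ℕ} (hi : i < 3) (hf : (nvs k i).2.2 = true) :
    (nvs k i).2.1 < 3 ∧ (d * (y * b)⁻¹) ^ i * gen a b c x y w (b * (d * (y * b)⁻¹)) k =
      ((nvs k i).1.map (letter a b c x y w z)).prod * (d * (y * b)⁻¹) ^ (nvs k i).2.1 := by
  have ea := cj_eq.1 D.ea
  have ea' := cj_eq.1 D.ea'
  have ec := cj_eq.1 D.ec
  have ec' := cj_eq.1 D.ec'
  have heρ : (d * (y * b)⁻¹) * (y * b) = (y * b) * (d * (y * b)⁻¹) := by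
    have h := D.d_comm
    have h2 : Commute d (y * b) := by
      have : Commute d (y * b)⁻¹ := h
      simpa using this.inv_right
    rw [mul_assoc, inv_mul_cancel, mul_one, h, ← mul_assoc, mul_inv_cancel, one_mul]
  have e3 := D.e3
  have be := D.be
  generalize d * (y * b)⁻¹ = e at ea ea' ec ec' heρ e3 be ⊢
  have ei : e⁻¹ = e * e := by
    rw [inv_eq_iff_mul_eq_one, ← e3]
    simp only [pow_succ, pow_zero, one_mul, mul_assoc]
  have eee : e * e * e = 1 := by
    rw [← e3]; simp only [pow_succ, pow_zero, one_mul]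
  rw [ei] at be
  have bb := D.F.bb
  have ye : e * y = y * (e * e) := by
    calc e * y = e * (y * b) * b := by rw [mul_assoc, mul_assoc, bb, mul_one]
      _ = (y * b) * (e * b) := by rw [heρ, mul_assoc]
      _ = y * (b * b) * (e * e) := by rw [be]; group
      _ = y * (e * e) := by rw [bb, mul_one]
  have be2 : e * e * b = b * e := by
    calc e * e * b = e * (e * b) := by group
      _ = e * (b * (e * e)) := by rw [be]
      _ = (e * b) * (e * e) := by group
      _ = (b * (e * e)) * (e * e) := by rw [be]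
      _ = b * (e * e * e) * e := by group
      _ = b * e := by rw [eee, mul_one]
  have ye2 : e * e * y = y * e := by
    calc e * e * y = e * (e * y) := by group
      _ = e * (y * (e * e)) := by rw [ye]
      _ = (e * y) * (e * e) := by group
      _ = (y * (e * e)) * (e * e) := by rw [ye]
      _ = y * (e * e * e) * e := by group
      _ = y * e := by rw [eee, mul_one]
  have ea2 : e * e * a = b * a * b * (e * e) := by
    calc e * e * a = e * (e * a) := by group
      _ = e * (a * (b * a * b) * e) := by rw [ea]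
      _ = (e * a) * (b * a * b) * e := by group
      _ = (a * (b * a * b) * e) * (b * a * b) * e := by rw [ea]
      _ = a * (b * a * b) * (e * (b * a * b)) * e := by group
      _ = a * (b * a * b) * (a * e) * e := by rw [ea']
      _ = (a * (b * a * b)) * a * (e * e) := by group
      _ = (b * a * b * a) * a * (e * e) := by rw [D.F.a_a']
      _ = b * a * b * (a * a) * (e * e) := by group
      _ = _ := by rw [D.F.aa, mul_one]
  have ec2 : e * e * c = c * (b * c * b) * (e * e) := by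
    calc e * e * c = e * (e * c) := by group
      _ = (e * (b * c * b)) * e := by rw [ec]; group
      _ = _ := by rw [ec']; group
  fin_cases k <;> interval_cases i
  all_goals
    first
    | (exfalso; revert hf; decide)
    | skip
  all_goals refine ⟨by decide, ?_⟩
  all_goals simp only [nvs, gen, letter, List.map_cons, List.map_nil, List.prod_cons,
    List.prod_nil, mul_one, pow_zero, one_mul, pow_one, pow_two]
  · rfl
  · change e * a = _
    rw [ea]; simp only [mul_assoc]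
  · change e * e * a = _
    rw [ea2]; simp only [mul_assoc]
  · rfl
  · exact be
  · exact be2
  · rfl
  · change e * c = _
    rw [ec]; simp only [mul_assoc]
  · change e * e * c = _
    rw [ec2]; simp only [mul_assoc]
  · rfl
  · exact ye
  · exact ye2
  · rfl
  · change e * (b * e) = b
    rw [← mul_assoc, be, mul_assoc, mul_assoc, ← mul_assoc e e e, eee, mul_one]
  · change e * e * (b * e) = b * (e * e)
    rw [← mul_assoc, be2, mul_assoc]

theorem nv_spec (r : List (Fin 7)) : ∀ (W : List ℕ) (i : ℕ) (f : Bool), i < 3 →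
    (nv r W i f).2.2 = true →
      f = true ∧ (W.map (letter a b c x y w z)).prod * (d * (y * b)⁻¹) ^ i *
        (r.map (gen a b c x y w (b * (d * (y * b)⁻¹)))).prod =
          ((nv r W i f).1.map (letter a b c x y w z)).prod *
            (d * (y * b)⁻¹) ^ (nv r W i f).2.1 := by
  induction r with
  | nil =>
    intro W i f _ hf
    exact ⟨hf, by simp [nv]⟩
  | cons k r ih =>
    intro W i f hi hf
    rw [nv] at hf
    have hi' : (nvs k i).2.1 < 3 := by
      have : ∀ k : Fin 7, ∀ i < 3, (nvs k i).2.1 < 3 := by decide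
      exact this k i hi
    obtain ⟨h1, h2⟩ := ih _ _ _ hi' hf
    rw [Bool.and_eq_true] at h1
    refine ⟨h1.1, ?_⟩
    rw [nv, ← h2, List.map_cons, List.prod_cons, List.map_append, List.prod_append]
    have h3 := (D.nvs_spec k hi h1.2).2
    calc (W.map (letter a b c x y w z)).prod * (d * (y * b)⁻¹) ^ i *
          (gen a b c x y w (b * (d * (y * b)⁻¹)) k *
            (r.map (gen a b c x y w (b * (d * (y * b)⁻¹)))).prod) =
        (W.map (letter a b c x y w z)).prod * ((d * (y * b)⁻¹) ^ i *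
          gen a b c x y w (b * (d * (y * b)⁻¹)) k) *
            (r.map (gen a b c x y w (b * (d * (y * b)⁻¹)))).prod := by
          simp only [mul_assoc]
      _ = _ := by rw [h3]; simp only [mul_assoc]

theorem tN_spec {r : List (Fin 7)} (h : tN r = true) :
    (r.map (gen a b c x y w (b * (d * (y * b)⁻¹)))).prod = 1 := by
  simp only [tN, Bool.and_eq_true, Nat.beq_eq, List.all_eq_true, Nat.blt_eq] at h
  obtain ⟨h1, h2, h3, h4⟩ := h
  have h5 := (D.nv_spec r [] 0 true (by norm_num) h1).2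
  rw [h2, List.map_nil, List.prod_nil, pow_zero, mul_one, one_mul, mul_one] at h5
  rw [h5]
  exact D.F.words _ [] h3 (by simp) h4

omit D in
theorem prod_rep (f : Fin 7 → G) (r : List (Fin 7)) (n : ℕ) :
    ((rep r n).map f).prod = ((r.map f).prod) ^ n := by
  rw [rep]
  induction n with
  | zero => simp
  | succ n ih =>
    rw [List.replicate_succ, List.flatten_cons, List.map_append, List.prod_append, ih, pow_succ']

/-- **The relators hold.** -/
theorem ok_spec {r : List (Fin 7)} (h : ok r = true) :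
    (r.map (gen a b c x y w (b * (d * (y * b)⁻¹)))).prod = 1 := by
  rw [ok, Bool.or_eq_true, Bool.or_eq_true, List.any_eq_true] at h
  rcases h with h | h | ⟨n, -, h⟩
  · exact D.tC_spec h
  · exact D.tN_spec h
  · rw [Bool.and_eq_true, beq_iff_eq, Bool.or_eq_true] at h
    obtain ⟨h1, h2⟩ := h
    rw [← h1, prod_rep]
    rcases h2 with h2 | h2
    · exact D.fpf₁ h2
    · exact D.fpf₂ h2

end Data

/-- the relators of the blueprint -/
def bp : List (List (Fin 7)) := [
  [0, 0], [1, 1], [2, 2], [3, 3], [4, 4], [5, 5], [6, 6],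
  rep [0, 1] 4, rep [0, 3] 3, rep [1, 3] 2, rep [0, 4] 2, rep [1, 4] 3, rep [3, 4] 4,
  rep [0, 1, 3] 3, rep [0, 1, 4] 3, rep [0, 3, 4] 3, rep [1, 2] 4, rep [2, 5] 3, rep [1, 5] 2,
  rep [2, 4] 2, rep [4, 5] 4, rep [2, 1, 4] 3, rep [1, 5, 4] 3,
  rep [2, 1, 5] 3 ++ [0, 2, 0, 2], rep [2, 5, 4] 3 ++ [0, 2, 0, 2], rep [2, 3] 2 ++ [0, 2, 0, 2],
  rep [3, 5] 2 ++ [0, 2, 0, 2], rep [5, 0] 2 ++ [0, 2, 0, 2], rep [0, 2, 0, 2, 1] 2,
  rep [0, 2, 0, 2, 4] 2, rep [0, 2] 4,
  rep [1, 6] 3, rep [1, 6, 4] 2, rep [6, 2] 2, [6, 0, 6, 4, 1, 0, 1, 4],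
  [6, 0, 6, 1, 0, 1, 0], [6, 1, 2, 1, 6, 2, 1, 2, 1],
  rep [6, 3] 5, rep [3, 4, 1, 6] 5, rep [0, 3, 6, 3, 6] 5,
  rep [6, 5] 5, rep [5, 4, 6] 5, rep [2, 5, 6, 5, 6, 1] 5]

theorem bp_ok : bp.all ok = true := by decide +kernel

end Cfsg.Agent.McLType.Relators
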