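import Cfsg.Agent.McLType.UpAData

set_option autoImplicit false
set_option maxRecDepth 100000

namespace Cfsg.Agent.McLType.UpAChk0

open Cfsg.Agent.SporadicRecognition.CosetCert Cfsg.Agent.McLType.UpAData

theorem c0 : Part C 0 64 64 := runChunk_sound C 64 (by decide +kernel : runChunk C 11 2047 0x200801002004004010020040080100100400409802004008008020020080100200400401002004008008020660040980200400800802002008010030040080100106634c0100100200811883004004010020e600801001004004098e30040080080200240c010020660043180200414c0084306600409802166008008030020080100300428c0980100200861802004004010431e600801001002008618030040040100200400811801004004098020040080080200200801002004004098430040080089306600409802004008008020020080100300400801001002008010020040040980206600409802004008008020020080100300400801001002008010030040040100200400801001066004098020040080080200200801003004008010010020080100300400401002004008118010020080100200400409802004008008020020080100300400409802004008008020040080100100400801002 23 8388607 0 0 64 = 65)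

theorem c1 : Part C 64 128 59 := runChunk_sound C 59 (by decide +kernel : runChunk C 11 2047 0x4004010020e600800802066004010023060080089300440c0100100200801002002008010020040040100200414c010011e60080080200458c0080200240c0100200458c0089300000400000002000000001e600801001000004010000040080100100200001000000004010000e644c6180100400409802166008008030020086180200240c6180206634c0100100400401002004004098e31660080080200240c0100200458c00843306004099230020086180300428c0980130600401043003bd37a003004004010020040081180100458c00802002008010031e600801001066004010020040040100200464c00802002008010020660040980200200801003004004098020e600800893da800409923003b136200300400801001002008010020040040992300400801001003c9061803e280040100200414c1180100400409802004008008020020080104300244c01003004004010021e634c01001 23 8388607 0x1b5385c000ab0000000002e60000000009b0001460000000000000000000000000000000000000000000000000000000000000000000000000000000000000000000000000000000000000000000000000000000000000000000000000000000000000000000000000000000000000000000000000000000000000000000000000000000000000000000000000000000000000 64 64 = 60)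

theorem c2 : Part C 128 173 45 := runChunk_sound C 45 (by decide +kernel : runChunk C 11 2047 0x4008010011e6008010010040041180200440c00802004004010020040040100200400401002002008098020040041180200440c008020020080100206634c0980130600800802004004010430040040100200258c0109330658c01001066008009b306600401002004008008020040080089306600401002066008008430020080104306628c09801004004010430040080980106658c009b3002008010020040081180100258c01002002008010020040080100100400800802346008008031e6008e1801004008618010e664c61801004004098021660080080306600809801004004618e300464c008030040040100200200801002 23 8388607 0 128 45 = 46)

theorem all : Part C 0 173 168 := ((c0).append C c1).append C c2

end Cfsg.Agent.McLType.UpAChk0
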